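/-
The faithful seven-dimensional representation of `G₂` in characteristic not two, inside the orthogonal group.
-/
import Cfsg.Agent.Lib.G2Odd.Tables
import Cfsg.Agent.Lib.Chev.Group
import Cfsg.Agent.Lib.Chev.Check.G2
import Cfsg.Agent.Lib.Chev.Bruhat
import Cfsg.Agent.Lib.Chev.AllC

set_option autoImplicit false
set_option linter.unusedSectionVars false
set_option linter.unusedSimpArgs false
set_option linter.style.longLine false
set_option maxHeartbeats 4000000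

namespace Cfsg.Agent.G2Odd

open Cfsg.Lie Cfsg.Agent.Chev
open scoped Matrix

/-- Matrices of size seven. -/
abbrev Mat (F : Type*) : Type _ := Matrix (Fin 7) (Fin 7) F

variable {F : Type*} [Field F]

/-- Cast of a table. -/
def cZ (f : ℕ → ℕ → ℤ) : Mat F := Matrix.of fun a b => (f a.val b.val : F)

theorem cZ_apply (f : ℕ → ℕ → ℤ) (a b : Fin 7) : (cZ f : Mat F) a b = (f a.val b.val : F) := rfl

theorem cZ_mul (f g : ℕ → ℕ → ℤ) : (cZ f : Mat F) * cZ g = cZ (mz f g) := by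
  ext a b
  simp only [Matrix.mul_apply, Fin.sum_univ_seven, cZ_apply, mz]
  push_cast
  rfl

theorem cZ_add (f g : ℕ → ℕ → ℤ) : (cZ f : Mat F) + cZ g = cZ (fun a b => f a b + g a b) := by
  ext a b
  simp [cZ_apply]

theorem cZ_ext {f g : ℕ → ℕ → ℤ} (h : ∀ a < 7, ∀ b < 7, f a b = g a b) : (cZ f : Mat F) = cZ g := by
  ext a b
  rw [cZ_apply, cZ_apply, h _ a.isLt _ b.isLt]

theorem cZ_zero : (cZ (fun _ _ => 0) : Mat F) = 0 := by
  ext a b
  simp [cZ_apply]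

/-- The image of a basis vector. -/
def Bm (x : chevG2.Idx) : Mat F := cZ (bz (code G2.pk x))

/-- The root element. -/
def Y (r : ℕ) (t : F) : Mat F := ∑ k ∈ Finset.range 3, t ^ k • cZ (yk k r)

/-- The form. -/
def J : Mat F := cZ jZ

/-- A term of the right hand side. -/
def R (r p q : ℕ) (j : chevG2.Idx) : Mat F :=
  (∑ x, (cM chevG2 F (Ek chevG2 G2.pk p r)) x j • Bm x) * cZ (yk q r)

theorem yk_ge {k : ℕ} (hk : 3 ≤ k) (r : ℕ) : (cZ (yk k r) : Mat F) = 0 := by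
  rw [← cZ_zero]
  refine cZ_ext fun a ha b hb => ?_
  unfold yk ykN
  rw [if_neg (by omega), if_neg (by omega), if_neg (by omega)]
  exact yk_high.2 a ha b hb

theorem sum_bz_mul {v : V} (hv : Valid G2.pk v) (g : ℕ → ℕ → ℤ) :
    (∑ x : chevG2.Idx, ((cf v (code G2.pk x) : ℤ) : F) • Bm (F := F) x) * cZ g =
      cZ fun a b => (v.map fun q => q.2 * mz (bz q.1) g a b).sum := by
  induction v with
  | nil =>
    ext a b
    simp [cf_nil, cZ_apply]
  | cons p v ih =>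
    obtain ⟨x0, hx0⟩ := G2.ok.exists_code (hv p (by simp))
    simp only [cf_cons, Int.cast_add, add_smul, Finset.sum_add_distrib, add_mul,
      ih (fun q hq => hv q (by simp [hq]))]
    rw [Finset.sum_eq_single x0 (fun x _ hx => by
        rw [if_neg (fun e => hx (G2.ok.code_inj (e.symm.trans hx0.symm))), Int.cast_zero, zero_smul])
      (by simp), if_pos hx0.symm, smul_mul_assoc, Bm, hx0, cZ_mul]
    ext a b
    simp [cZ_apply]

theorem R_eq {r p : ℕ} (hr : r < 12) (q : ℕ) (j : chevG2.Idx) :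
    R (F := F) r p q j = cZ fun a b =>
      ((G2.pk.colL p r (code G2.pk j)).map fun z => z.2 * mz (bz z.1) (yk q r) a b).sum := by
  rw [R, ← sum_bz_mul (G2.ok.valid_colL (k := p) hr (G2.ok.code_lt j))]
  rfl

/-- The degree `k` part of the right hand side. -/
def RR (r k : ℕ) (j : chevG2.Idx) : Mat F :=
  ∑ p ∈ Finset.range 4, if p ≤ k then R r p (k - p) j else 0

theorem level {r k : ℕ} (hr : r < 12) (hk : k < 6) (j : chevG2.Idx) :
    (cZ (yk k r) : Mat F) * Bm j = RR r k j := by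
  have hck := ckInt_eq hr
  simp only [ckInt, List.all_eq_true, List.mem_range, decide_eq_true_eq] at hck
  have hc := hck k hk (code G2.pk j) (G2.ok.code_lt j)
  have e : ∀ p, (if p ≤ k then R (F := F) r p (k - p) j else 0) =
      cZ (fun a b => term p k r (code G2.pk j) a b) := by
    intro p
    by_cases hp : p ≤ k
    · rw [if_pos hp, R_eq hr]
      ext a b
      simp [cZ_apply, term, hp]
    · rw [if_neg hp]
      ext a b
      simp [cZ_apply, term, hp]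
  rw [RR, Bm, cZ_mul]
  simp only [Finset.sum_range_succ, Finset.range_zero, Finset.sum_empty, zero_add, e, cZ_add]
  exact cZ_ext fun a ha b hb => hc a ha b hb

theorem intertwine {r : ℕ} (hr : r < 12) (t : F) (j : chevG2.Idx) :
    Y r t * Bm j = (∑ i, X chevG2 G2.pk r t i j • Bm i) * Y r t := by
  have eX : ∑ i, X chevG2 G2.pk r t i j • Bm (F := F) i =
      ∑ p ∈ Finset.range 4, t ^ p • ∑ x, (cM chevG2 F (Ek chevG2 G2.pk p r)) x j • Bm x := by
    simp only [X, Matrix.sum_apply, Matrix.smul_apply, Finset.sum_smul, Finset.smul_sum, smul_smul,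
      smul_eq_mul]
    exact Finset.sum_comm
  have h0 := level (F := F) hr (by norm_num : 0 < 6) j
  have h1 := level (F := F) hr (by norm_num : 1 < 6) j
  have h2 := level (F := F) hr (by norm_num : 2 < 6) j
  have h3 := level (F := F) hr (by norm_num : 3 < 6) j
  have h4 := level (F := F) hr (by norm_num : 4 < 6) j
  have h5 := level (F := F) hr (by norm_num : 5 < 6) j
  simp only [RR, Finset.sum_range_succ, Finset.range_zero, Finset.sum_empty, zero_add,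
    yk_ge (le_refl 3), yk_ge (show 3 ≤ 4 by norm_num), yk_ge (show 3 ≤ 5 by norm_num), zero_mul, R,
    mul_zero, Nat.reduceLeDiff, Nat.reduceSub, if_true, if_false, add_zero] at h0 h1 h2 h3 h4 h5
  rw [eX]
  simp only [Y, Finset.sum_range_succ, Finset.range_zero, Finset.sum_empty, zero_add, add_mul,
    mul_add, smul_mul_assoc, mul_smul_comm, h0, h1, h2]
  linear_combination (norm := module) t ^ 3 • h3 + t ^ 4 • h4 + t ^ 5 • h5

theorem Y_eq {r : ℕ} (hr : r < 12) (t : F) :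
    Y r t = 1 + t • cZ (yk 1 r) + t ^ 2 • cZ (yk 2 r) := by
  have e : (cZ (yk 0 r) : Mat F) = 1 := by
    ext a b
    rw [cZ_apply, yk_zero r hr _ a.isLt _ b.isLt, oneZ, Matrix.one_apply]
    by_cases h : a = b
    · simp [h]
    · simp [h, Fin.val_inj]
  simp [Y, Finset.sum_range_succ, e]

theorem root_rules {r : ℕ} (hr : r < 12) :
    (cZ (yk 1 r) : Mat F) * cZ (yk 1 r) = (2 : F) • cZ (yk 2 r) ∧
    (cZ (yk 1 r) : Mat F) * cZ (yk 2 r) = 0 ∧ (cZ (yk 2 r) : Mat F) * cZ (yk 1 r) = 0 ∧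
    (cZ (yk 2 r) : Mat F) * cZ (yk 2 r) = 0 ∧
    (cZ (yk 1 r) : Mat F)ᵀ * J + J * cZ (yk 1 r) = 0 ∧
    (cZ (yk 2 r) : Mat F)ᵀ * J + (cZ (yk 1 r) : Mat F)ᵀ * J * cZ (yk 1 r) + J * cZ (yk 2 r) = 0 ∧
    (cZ (yk 1 r) : Mat F)ᵀ * J * cZ (yk 2 r) + (cZ (yk 2 r) : Mat F)ᵀ * J * cZ (yk 1 r) = 0 ∧
    (cZ (yk 2 r) : Mat F)ᵀ * J * cZ (yk 2 r) = 0 := by
  have hck := List.all_eq_true.1 ckRoot_eq r (List.mem_range.2 hr)
  simp only [ckRoot, List.all_eq_true, List.mem_range, decide_eq_true_eq] at hck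
  have tr : ∀ f : ℕ → ℕ → ℤ, (cZ f : Mat F)ᵀ = cZ fun u v => f v u := fun f => rfl
  have two : ∀ f : ℕ → ℕ → ℤ, (2 : F) • (cZ f : Mat F) = cZ fun a b => 2 * f a b := fun f => by
    ext a b
    simp [cZ_apply]
  simp only [J, tr, cZ_mul, cZ_add, two, ← cZ_zero (F := F)]
  refine ⟨?_, ?_, ?_, ?_, ?_, ?_, ?_, ?_⟩ <;> refine cZ_ext fun a ha b hb => ?_
  · exact (hck a ha b hb).1
  · exact (hck a ha b hb).2.1
  · exact (hck a ha b hb).2.2.1
  · exact (hck a ha b hb).2.2.2.1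
  · exact (hck a ha b hb).2.2.2.2.1
  · exact (hck a ha b hb).2.2.2.2.2.1
  · exact (hck a ha b hb).2.2.2.2.2.2.1
  · exact (hck a ha b hb).2.2.2.2.2.2.2

theorem Y_add {r : ℕ} (hr : r < 12) (t s : F) : Y r t * Y r s = Y r (t + s) := by
  obtain ⟨h1, h2, h3, h4, -⟩ := root_rules (F := F) hr
  rw [Y_eq hr, Y_eq hr, Y_eq hr]
  simp only [add_mul, mul_add, one_mul, mul_one, smul_mul_assoc, mul_smul_comm, h1, h2, h3, h4, smul_zero,
    add_zero]
  module

theorem Y_zero {r : ℕ} (hr : r < 12) : Y r (0 : F) = 1 := by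
  simp [Y_eq hr]

theorem Y_form {r : ℕ} (hr : r < 12) (t : F) : (Y r t)ᵀ * J * Y r t = J := by
  obtain ⟨-, -, -, -, h1, h2, h3, h4⟩ := root_rules (F := F) hr
  rw [Y_eq hr]
  simp only [Matrix.transpose_add, Matrix.transpose_smul, Matrix.transpose_one, add_mul, mul_add, one_mul,
    mul_one, smul_mul_assoc, mul_smul_comm]
  linear_combination (norm := module) t • h1 + t ^ 2 • h2 + t ^ 3 • h3 + t ^ 4 • h4

theorem J_sq : (J : Mat F) * J = Matrix.diagonal ![1, 1, 1, 4, 1, 1, 1] := by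
  ext a b
  fin_cases a <;> fin_cases b <;> simp [J, cZ_apply, jZ, Matrix.mul_apply, Fin.sum_univ_seven] <;> norm_num

theorem det_J_ne (h2 : (2 : F) ≠ 0) : (J : Mat F).det ≠ 0 := fun h => by
  have e := congrArg Matrix.det (J_sq (F := F))
  rw [Matrix.det_mul, h, zero_mul, Matrix.det_diagonal, Fin.prod_univ_seven] at e
  simp at e
  exact h2 (pow_eq_zero_iff two_ne_zero |>.1 (show (2 : F) ^ 2 = 0 by norm_num; exact e.symm))

/-! ### Independence and the centraliser -/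

/-- A position where only the `i`-th image is non-zero, with a unit entry. -/
def isPivot (i : ℕ) (a b : Fin 7) : Bool :=
  decide (bz i a.val b.val = 1 ∨ bz i a.val b.val = -1) &&
  (List.range 14).all fun i' => decide (i' = i ∨ (i = 13 ∧ i' = 12) ∨ bz i' a.val b.val = 0)

theorem exists_pivot : ∀ i : Fin 14, ∃ a b : Fin 7, isPivot i.val a b = true := by decide +kernel

theorem bm_indep {c : chevG2.Idx → F} (h : ∑ x, c x • Bm (F := F) x = 0) : c = 0 := by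
  have step : ∀ x0 : chevG2.Idx, (code G2.pk x0 = 13 → ∀ x, code G2.pk x = 12 → c x = 0) → c x0 = 0 := by
    intro x0 hprev
    obtain ⟨a, b, hab⟩ := exists_pivot ⟨code G2.pk x0, G2.ok.code_lt x0⟩
    simp only [isPivot, Bool.and_eq_true, List.all_eq_true, List.mem_range, decide_eq_true_eq] at hab
    have h1 := congrFun (congrFun h a) b
    rw [Matrix.sum_apply, Finset.sum_eq_single x0 (fun x _ hx => by
        rw [Matrix.smul_apply, Bm, cZ_apply, smul_eq_mul]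
        rcases hab.2 _ (G2.ok.code_lt x) with e | ⟨e, e'⟩ | e
        · exact absurd (G2.ok.code_inj e) hx
        · rw [hprev e x e', zero_mul]
        · rw [e, Int.cast_zero, mul_zero]) (by simp)] at h1
    rw [Matrix.smul_apply, Bm, cZ_apply, smul_eq_mul, Matrix.zero_apply] at h1
    rcases hab.1 with e | e <;> rw [e] at h1 <;> simpa using h1
  funext x0
  refine step x0 fun _ x hx => step x fun h13 => ?_
  omega

theorem eq_scalar (h2 : (2 : F) ≠ 0) {M : Mat F} (hM : ∀ x, M * Bm x = Bm x * M) : M = (M 0 0) • 1 := by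
  have hB : ∀ i : Fin 14, M * cZ (bz i.val) = cZ (bz i.val) * M := fun i => by
    obtain ⟨x, hx⟩ := G2.ok.exists_code (c := i.val) (by exact i.isLt)
    have := hM x
    rwa [Bm, hx] at this
  have d0 : (cZ (bz 12) : Mat F) = Matrix.diagonal ![1, -1, 2, 0, -2, 1, -1] := by
    ext a b
    fin_cases a <;> fin_cases b <;> simp [cZ_apply, bz, ent]
  have d1 : (cZ (bz 13) : Mat F) = Matrix.diagonal ![0, 1, -1, 0, 1, -1, 0] := by
    ext a b
    fin_cases a <;> fin_cases b <;> simp [cZ_apply, bz, ent]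
  have hoff : ∀ a b, a ≠ b → M a b = 0 := by
    intro a b hab
    have e0 := congrFun (congrFun (hB 12) a) b
    have e1 := congrFun (congrFun (hB 13) a) b
    simp only [show ((12 : Fin 14) : ℕ) = 12 from rfl, show ((13 : Fin 14) : ℕ) = 13 from rfl, d0, d1,
      Matrix.mul_diagonal, Matrix.diagonal_mul] at e0 e1
    revert hab e0 e1
    fin_cases a <;> fin_cases b <;> simp <;> grind
  have link : ∀ (i : Fin 14) (a b : Fin 7) (z : F), (cZ (bz i.val) : Mat F) a b = z → z ≠ 0 → M a a = M b b := by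
    intro i a b z hz hz0
    have e := congrFun (congrFun (hB i) a) b
    rw [Matrix.mul_apply, Matrix.mul_apply, Finset.sum_eq_single a (fun c _ hc => by
      rw [hoff a c (Ne.symm hc), zero_mul]) (by simp), Finset.sum_eq_single b (fun c _ hc => by
      rw [hoff c b hc, mul_zero]) (by simp), hz] at e
    exact mul_right_cancel₀ hz0 (e.trans (mul_comm _ _))
  have l01 := link 7 0 1 1 (by simp [cZ_apply, bz, ent]) one_ne_zero
  have l23 := link 7 2 3 2 (by simp [cZ_apply, bz, ent]) h2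
  have l34 := link 7 3 4 1 (by simp [cZ_apply, bz, ent]) one_ne_zero
  have l56 := link 7 5 6 1 (by simp [cZ_apply, bz, ent]) one_ne_zero
  have l12 := link 6 1 2 1 (by simp [cZ_apply, bz, ent]) one_ne_zero
  have l45 := link 6 4 5 1 (by simp [cZ_apply, bz, ent]) one_ne_zero
  ext a b
  by_cases hab : a = b
  · subst hab
    rw [Matrix.smul_apply, Matrix.one_apply_eq, smul_eq_mul, mul_one]
    fin_cases a <;> simp [l01, l12, l23, l34, l45, l56]
  · rw [Matrix.smul_apply, Matrix.one_apply_ne hab, smul_zero, hoff a b hab]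

/-! ### The representation -/

/-- The root element as a unit. -/
def yu {r : ℕ} (hr : r < 12) (t : F) : GL (Fin 7) F :=
  ⟨Y r t, Y r (-t), by rw [Y_add hr, add_neg_cancel, Y_zero hr], by rw [Y_add hr, neg_add_cancel, Y_zero hr]⟩

variable (F) in
/-- Pairs of corresponding root elements. -/
def pairSet : Set (GL (Fin 7) F × GL chevG2.Idx F) :=
  {p | ∃ (r : ℕ) (hr : r < 12) (t : F), p = (yu hr t, G2.ok.xG r t)}

variable (F) in
/-- Their group. -/
def pairG : Subgroup (GL (Fin 7) F × GL chevG2.Idx F) := Subgroup.closure (pairSet F)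

/-- The intertwining property. -/
def Rel (M : Mat F) (A : Matrix chevG2.Idx chevG2.Idx F) : Prop :=
  ∀ j, M * Bm j = (∑ i, A i j • Bm i) * M

theorem rel_mul {M N : Mat F} {A A' : Matrix chevG2.Idx chevG2.Idx F} (h : Rel M A)
    (h' : Rel N A') : Rel (M * N) (A * A') := by
  intro j
  rw [mul_assoc, h' j, ← mul_assoc, ← mul_assoc]
  congr 1
  simp only [Finset.mul_sum, Finset.sum_mul, mul_smul_comm, smul_mul_assoc, h _, Finset.smul_sum,
    smul_smul, Matrix.mul_apply, Finset.sum_smul]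
  rw [Finset.sum_comm]
  exact Finset.sum_congr rfl fun x _ => Finset.sum_congr rfl fun y _ => by rw [mul_comm]

theorem det_Y (h2 : (2 : F) ≠ 0) {r : ℕ} (hr : r < 12) (t : F) : (Y r t).det = 1 := by
  have key : ∀ s : F, (Y r s).det ^ 2 = 1 := by
    intro s
    have e := congrArg Matrix.det (Y_form hr s)
    rw [Matrix.det_mul, Matrix.det_mul, Matrix.det_transpose] at e
    refine mul_right_cancel₀ (det_J_ne (F := F) h2) ?_
    rw [one_mul]
    linear_combination e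
  rw [show t = t / 2 + t / 2 by field_simp; ring, ← Y_add hr, Matrix.det_mul, ← pow_two, key]

theorem pairG_spec (h2 : (2 : F) ≠ 0) {p : GL (Fin 7) F × GL chevG2.Idx F} (hp : p ∈ pairG F) :
    Rel (p.1 : Mat F) (p.2 : Matrix chevG2.Idx chevG2.Idx F) ∧
      (p.1 : Mat F)ᵀ * J * (p.1 : Mat F) = J ∧ (p.1 : Mat F).det = 1 := by
  have gen : ∀ (r : ℕ) (hr : r < 12) (t : F), Rel (Y r t) (G2.ok.xG r t : Matrix chevG2.Idx chevG2.Idx F) ∧
      (Y r t)ᵀ * J * Y r t = J ∧ (Y r t).det = 1 := by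
    intro r hr t
    refine ⟨fun j => ?_, Y_form hr t, det_Y h2 hr t⟩
    rw [G2.ok.coe_xG' hr]
    exact intertwine hr t j
  induction hp using Subgroup.closure_induction'' with
  | mem x hx => obtain ⟨r, hr, t, rfl⟩ := hx; exact gen r hr t
  | inv_mem x hx =>
    obtain ⟨r, hr, t, rfl⟩ := hx
    show Rel (Y r (-t)) ((G2.ok.xG r t)⁻¹ : GL chevG2.Idx F) ∧ (Y r (-t))ᵀ * J * Y r (-t) = J ∧ (Y r (-t)).det = 1
    rw [G2.ok.xG_inv]
    exact gen r hr (-t)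
  | one =>
    exact ⟨fun j => by simp [Matrix.one_apply, ite_smul], by simp, Matrix.det_one⟩
  | mul a b _ _ ha hb =>
    refine ⟨rel_mul ha.1 hb.1, ?_, ?_⟩
    · show ((a.1 : Mat F) * (b.1 : Mat F))ᵀ * J * ((a.1 : Mat F) * (b.1 : Mat F)) = J
      rw [Matrix.transpose_mul]
      calc _ = (b.1 : Mat F)ᵀ * ((a.1 : Mat F)ᵀ * J * (a.1 : Mat F)) * (b.1 : Mat F) := by
            simp only [mul_assoc]
        _ = J := by rw [ha.2.1, hb.2.1]
    · show ((a.1 : Mat F) * (b.1 : Mat F)).det = 1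
      rw [Matrix.det_mul, ha.2.2, hb.2.2, one_mul]

theorem pairG_injective (h2 : (2 : F) ≠ 0) {p : GL (Fin 7) F × GL chevG2.Idx F} (hp : p ∈ pairG F) :
    (p.1 = 1 → p.2 = 1) ∧ (p.2 = 1 → p.1 = 1) := by
  obtain ⟨hrel, hsp, hdet⟩ := pairG_spec h2 hp
  refine ⟨fun h => Units.ext ?_, fun h => Units.ext ?_⟩
  · ext i j
    have e := hrel j
    rw [h, Units.val_one, one_mul, mul_one] at e
    have := bm_indep (F := F) (c := fun i => (p.2 : Matrix chevG2.Idx chevG2.Idx F) i j - (1 : Matrix chevG2.Idx chevG2.Idx F) i j) (by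
      simp only [sub_smul, Finset.sum_sub_distrib, ← e]
      simp [Matrix.one_apply, ite_smul])
    exact sub_eq_zero.1 (congrFun this i)
  · have e : ∀ x, (p.1 : Mat F) * Bm x = Bm x * (p.1 : Mat F) := fun x => by
      rw [hrel x, h]
      simp [Matrix.one_apply, ite_smul]
    have hs := eq_scalar h2 e
    generalize (p.1 : Mat F) 0 0 = c at hs
    rw [hs] at hsp hdet
    rw [Matrix.det_smul, Matrix.det_one, mul_one, Fintype.card_fin] at hdet
    have h1 := congrFun (congrFun hsp 0) 6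
    simp [J, cZ_apply, jZ, Matrix.mul_apply, Matrix.one_apply] at h1
    have hc : c = 1 := by
      rw [← hdet, pow_succ, show c ^ 6 = (c * c) ^ 3 by ring, h1, one_pow, one_mul]
    rw [hs, hc, one_smul]
    rfl

/-- The root elements by decreasing height. -/
def Yn (r : ℕ) (t : F) : Mat F :=
  match r with
  | 0 => !![1, 0, 0, 0, 0, 0, 0; 0, 1, 0, 0, 0, 0, 0; 0, 0, 1, 0, 0, 0, 0; 0, 0, 0, 1, 0, 0, 0; 0, 0, 0, 0, 1, 0, 0; -t, 0, 0, 0, 0, 1, 0; 0, -t, 0, 0, 0, 0, 1]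
  | 1 => !![1, 0, 0, 0, 0, 0, 0; 0, 1, 0, 0, 0, 0, 0; 0, 0, 1, 0, 0, 0, 0; 0, 0, 0, 1, 0, 0, 0; t, 0, 0, 0, 1, 0, 0; 0, 0, 0, 0, 0, 1, 0; 0, 0, -t, 0, 0, 0, 1]
  | 2 => !![1, 0, 0, 0, 0, 0, 0; 0, 1, 0, 0, 0, 0, 0; 0, 0, 1, 0, 0, 0, 0; -t, 0, 0, 1, 0, 0, 0; 0, t, 0, 0, 1, 0, 0; 0, 0, t, 0, 0, 1, 0; t ^ 2, 0, 0, -(2 * t), 0, 0, 1]
  | 3 => !![1, 0, 0, 0, 0, 0, 0; 0, 1, 0, 0, 0, 0, 0; -t, 0, 1, 0, 0, 0, 0; 0, t, 0, 1, 0, 0, 0; 0, 0, 0, 0, 1, 0, 0; 0, -(t ^ 2), 0, -(2 * t), 0, 1, 0; 0, 0, 0, 0, t, 0, 1]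
  | 4 => !![1, 0, 0, 0, 0, 0, 0; t, 1, 0, 0, 0, 0, 0; 0, 0, 1, 0, 0, 0, 0; 0, 0, t, 1, 0, 0, 0; 0, 0, t ^ 2, 2 * t, 1, 0, 0; 0, 0, 0, 0, 0, 1, 0; 0, 0, 0, 0, 0, t, 1]
  | 5 => !![1, 0, 0, 0, 0, 0, 0; 0, 1, 0, 0, 0, 0, 0; 0, t, 1, 0, 0, 0, 0; 0, 0, 0, 1, 0, 0, 0; 0, 0, 0, 0, 1, 0, 0; 0, 0, 0, 0, t, 1, 0; 0, 0, 0, 0, 0, 0, 1]
  | 6 => !![1, 0, 0, 0, 0, 0, 0; 0, 1, t, 0, 0, 0, 0; 0, 0, 1, 0, 0, 0, 0; 0, 0, 0, 1, 0, 0, 0; 0, 0, 0, 0, 1, t, 0; 0, 0, 0, 0, 0, 1, 0; 0, 0, 0, 0, 0, 0, 1]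
  | 7 => !![1, t, 0, 0, 0, 0, 0; 0, 1, 0, 0, 0, 0, 0; 0, 0, 1, 2 * t, t ^ 2, 0, 0; 0, 0, 0, 1, t, 0, 0; 0, 0, 0, 0, 1, 0, 0; 0, 0, 0, 0, 0, 1, t; 0, 0, 0, 0, 0, 0, 1]
  | 8 => !![1, 0, -t, 0, 0, 0, 0; 0, 1, 0, 2 * t, 0, -(t ^ 2), 0; 0, 0, 1, 0, 0, 0, 0; 0, 0, 0, 1, 0, -t, 0; 0, 0, 0, 0, 1, 0, t; 0, 0, 0, 0, 0, 1, 0; 0, 0, 0, 0, 0, 0, 1]
  | 9 => !![1, 0, 0, -(2 * t), 0, 0, t ^ 2; 0, 1, 0, 0, t, 0, 0; 0, 0, 1, 0, 0, t, 0; 0, 0, 0, 1, 0, 0, -t; 0, 0, 0, 0, 1, 0, 0; 0, 0, 0, 0, 0, 1, 0; 0, 0, 0, 0, 0, 0, 1]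
  | 10 => !![1, 0, 0, 0, t, 0, 0; 0, 1, 0, 0, 0, 0, 0; 0, 0, 1, 0, 0, 0, -t; 0, 0, 0, 1, 0, 0, 0; 0, 0, 0, 0, 1, 0, 0; 0, 0, 0, 0, 0, 1, 0; 0, 0, 0, 0, 0, 0, 1]
  | 11 => !![1, 0, 0, 0, 0, -t, 0; 0, 1, 0, 0, 0, 0, -t; 0, 0, 1, 0, 0, 0, 0; 0, 0, 0, 1, 0, 0, 0; 0, 0, 0, 0, 1, 0, 0; 0, 0, 0, 0, 0, 1, 0; 0, 0, 0, 0, 0, 0, 1]
  | _ => 1

theorem Y_Yn {r : ℕ} (hr : r < 12) (t : F) : Y r t = Yn r t := by
  ext a b
  rw [Y_eq hr]
  interval_cases r <;> fin_cases a <;> fin_cases b <;> simp [Yn, cZ_apply, yk, ykN, ent] <;> ring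

/-- The representation. -/
theorem exists_rep (F : Type*) [Field F] (h2 : (2 : F) ≠ 0) : ∃ π : ↥(chevG2.group F) →* GL (Fin 7) F,
    Function.Injective π ∧
    (∀ g, ((π g : GL (Fin 7) F) : Mat F)ᵀ * J * ((π g : GL (Fin 7) F) : Mat F) = J) ∧
    ∀ r < 12, ∀ (t : F) (g : ↥(chevG2.group F)), (g : GL chevG2.Idx F) = G2.ok.xG r t →
      ((π g : GL (Fin 7) F) : Mat F) = Yn r t := by
  let ψ : ↥(pairG F) →* GL chevG2.Idx F := (MonoidHom.snd _ _).comp (pairG F).subtype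
  have hinj : Function.Injective ψ := (injective_iff_map_eq_one ψ).2 fun p hp =>
    Subtype.ext (Prod.ext ((pairG_injective h2 p.2).2 hp) hp)
  have hrange : chevG2.group F ≤ ψ.range := by
    rw [ChevalleyDatum.group, Subgroup.closure_le]
    rintro g ⟨r, t, hg⟩
    refine ⟨⟨_, Subgroup.subset_closure ⟨r.val, r.isLt, t, rfl⟩⟩, ?_⟩
    show G2.ok.xG r.val t = g
    apply Units.ext
    rw [G2.ok.coe_xG, hg, ChevalleyDatum.x, dif_pos r.isLt]
  let e := MonoidHom.ofInjective hinj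
  let π₀ : ↥(chevG2.group F) →* GL (Fin 7) F :=
    (((MonoidHom.fst _ _).comp (pairG F).subtype).comp e.symm.toMonoidHom).comp (Subgroup.inclusion hrange)
  have hπ₀ : ∀ g, ∃ p ∈ pairG F, p.2 = g.1 ∧ p.1 = π₀ g := fun g => by
    refine ⟨_, (e.symm (Subgroup.inclusion hrange g)).2, ?_, rfl⟩
    show ((e (e.symm (Subgroup.inclusion hrange g))) : GL chevG2.Idx F) = g.1
    rw [MulEquiv.apply_symm_apply]
    rfl
  refine ⟨π₀, (injective_iff_map_eq_one π₀).2 fun g hg => ?_, fun g => ?_, fun r hr t g hg => ?_⟩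
  · obtain ⟨p, hp, e2, e1⟩ := hπ₀ g
    exact Subtype.ext (e2.symm.trans ((pairG_injective h2 hp).1 (e1.trans hg)))
  · obtain ⟨p, hp, e2, e1⟩ := hπ₀ g
    rw [← e1]
    exact (pairG_spec h2 hp).2.1
  · obtain ⟨p, hp, e2, e1⟩ := hπ₀ g
    have hq : (yu hr t, G2.ok.xG r t) ∈ pairG F := Subgroup.subset_closure ⟨r, hr, t, rfl⟩
    have h3 : π₀ g = yu hr t := by
      rw [← e1]
      have := (pairG_injective h2 (mul_mem hp (inv_mem hq))).2 (by
        show p.2 * (G2.ok.xG r t)⁻¹ = 1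
        rw [e2, hg, mul_inv_cancel])
      exact mul_inv_eq_one.1 this
    rw [h3]
    exact Y_Yn hr t

end Cfsg.Agent.G2Odd
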