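/-
Every element of G₂ in odd characteristic is triangular with weights `x, y, z, 1, z⁻¹, y⁻¹, x⁻¹` up to conjugation.
-/
import Cfsg.Agent.Lib.G2Odd.Model

set_option autoImplicit false
set_option linter.unusedSectionVars false
set_option linter.unusedSimpArgs false
set_option linter.style.longLine false
set_option maxHeartbeats 4000000

namespace Cfsg.Agent.G2Odd

open Cfsg.Lie Cfsg.Agent.Chev
open scoped Matrix

variable {K : Type*} [Field K]

/-- A representation with the standard root matrices. -/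
structure Rep7 (K : Type*) [Field K] where
  two : (2 : K) ≠ 0
  π : ↥(chevG2.group K) →* GL (Fin 7) K
  inj : Function.Injective π
  form : ∀ g, ((π g : GL (Fin 7) K) : Mat K)ᵀ * J * ((π g : GL (Fin 7) K) : Mat K) = J
  root : ∀ r < 12, ∀ (t : K) (g : ↥(chevG2.group K)), (g : GL chevG2.Idx K) = G2.ok.xG r t →
    ((π g : GL (Fin 7) K) : Mat K) = Yn r t

theorem exists_Rep7 (K : Type*) [Field K] (h2 : (2 : K) ≠ 0) : Nonempty (Rep7 K) := by
  obtain ⟨π, h1, h3, h4⟩ := exists_rep K h2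
  exact ⟨⟨h2, π, h1, h3, h4⟩⟩

variable (R : Rep7 K)

/-- The matrix of an element. -/
noncomputable def Rep7.M : ↥(chevG2.group K) →* Mat K := (Units.coeHom _).comp R.π

theorem Rep7.M_inj : Function.Injective R.M := fun _ _ h => R.inj (Units.ext h)

theorem M_form (g : ↥(chevG2.group K)) : (R.M g)ᵀ * J * R.M g = J := R.form g

/-- A root element in the group. -/
def xe (r : ℕ) (t : K) : ↥(chevG2.group K) := ⟨G2.ok.xG r t, G2.ok.mem_group_of_xG r t⟩

theorem M_xe {r : ℕ} (hr : r < 12) (t : K) : R.M (xe r t) = Yn r t := R.root r hr t _ rfl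

/-- The weight shape. -/
def Good (A : Mat K) : Prop :=
  (∀ i j, j < i → A i j = 0) ∧ A 0 0 = A 1 1 * A 2 2 ∧ A 6 6 * A 0 0 = 1 ∧ A 5 5 * A 1 1 = 1 ∧ A 4 4 * A 2 2 = 1 ∧
    A 3 3 = 1

theorem tri_mul_diag {A B : Mat K} (hA : ∀ i j, j < i → A i j = 0) (hB : ∀ i j, j < i → B i j = 0)
    (i : Fin 7) : (A * B) i i = A i i * B i i := by
  rw [Matrix.mul_apply, Finset.sum_eq_single i (fun k _ hk => ?_) (by simp)]
  rcases lt_or_gt_of_ne hk with h | h
  · rw [hA i k h, zero_mul]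
  · rw [hB k i h, mul_zero]

theorem tri_mul {A B : Mat K} (hA : ∀ i j, j < i → A i j = 0) (hB : ∀ i j, j < i → B i j = 0) :
    ∀ i j, j < i → (A * B) i j = 0 := fun i j h => by
  rw [Matrix.mul_apply]
  refine Finset.sum_eq_zero fun k _ => ?_
  rcases lt_or_ge k i with h' | h'
  · rw [hA i k h', zero_mul]
  · rw [hB k j (lt_of_lt_of_le h h'), mul_zero]

theorem Good.mul {A B : Mat K} (hA : Good A) (hB : Good B) : Good (A * B) := by
  obtain ⟨a0, a1, a2, a3, a4, a5⟩ := hA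
  obtain ⟨b0, b1, b2, b3, b4, b5⟩ := hB
  refine ⟨tri_mul a0 b0, ?_, ?_, ?_, ?_, ?_⟩
  all_goals simp only [tri_mul_diag a0 b0]
  · rw [a1, b1]; ring
  · linear_combination (B 6 6 * B 0 0) * a2 + b2
  · linear_combination (B 5 5 * B 1 1) * a3 + b3
  · linear_combination (B 4 4 * B 2 2) * a4 + b4
  · rw [a5, b5, one_mul]

theorem good_one : Good (1 : Mat K) :=
  ⟨fun i j h => Matrix.one_apply_ne (Ne.symm h.ne), by simp, by simp, by simp, by simp, by simp⟩

theorem good_root {r : ℕ} (hr : r ∈ [6, 7, 8, 9, 10, 11]) (t : K) : Good (Yn r t) := by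
  simp only [List.mem_cons, List.not_mem_nil, or_false] at hr
  refine ⟨fun i j h => ?_, ?_, ?_, ?_, ?_, ?_⟩
  · rcases hr with rfl | rfl | rfl | rfl | rfl | rfl <;> revert h <;> fin_cases i <;> fin_cases j <;>
      simp [Yn]
  all_goals rcases hr with rfl | rfl | rfl | rfl | rfl | rfl <;> simp [Yn]

theorem nt_seven (t : K) (ht : t ≠ 0) : Yn 7 t * Yn 4 (-t⁻¹) * Yn 7 t =
    !![0, t, 0, 0, 0, 0, 0; -t⁻¹, 0, 0, 0, 0, 0, 0; 0, 0, 0, 0, t ^ 2, 0, 0; 0, 0, 0, -1, 0, 0, 0;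
      0, 0, t⁻¹ ^ 2, 0, 0, 0, 0; 0, 0, 0, 0, 0, 0, t; 0, 0, 0, 0, 0, -t⁻¹, 0] := by
  ext i j
  fin_cases i <;> fin_cases j <;> simp [Yn, Matrix.mul_apply, Fin.sum_univ_seven, ht] <;> field_simp <;> ring

theorem nt_six (t : K) (ht : t ≠ 0) : Yn 6 t * Yn 5 (-t⁻¹) * Yn 6 t =
    !![1, 0, 0, 0, 0, 0, 0; 0, 0, t, 0, 0, 0, 0; 0, -t⁻¹, 0, 0, 0, 0, 0; 0, 0, 0, 1, 0, 0, 0;
      0, 0, 0, 0, 0, t, 0; 0, 0, 0, 0, -t⁻¹, 0, 0; 0, 0, 0, 0, 0, 0, 1] := by
  ext i j
  fin_cases i <;> fin_cases j <;> simp [Yn, Matrix.mul_apply, Fin.sum_univ_seven, ht] <;> field_simp <;> ring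

/-- The first simple reflection. -/
def naM : Mat K := !![0, 1, 0, 0, 0, 0, 0; -1, 0, 0, 0, 0, 0, 0; 0, 0, 0, 0, 1, 0, 0; 0, 0, 0, -1, 0, 0, 0;
  0, 0, 1, 0, 0, 0, 0; 0, 0, 0, 0, 0, 0, 1; 0, 0, 0, 0, 0, -1, 0]

/-- The second simple reflection. -/
def nbM : Mat K := !![1, 0, 0, 0, 0, 0, 0; 0, 0, 1, 0, 0, 0, 0; 0, -1, 0, 0, 0, 0, 0; 0, 0, 0, 1, 0, 0, 0;
  0, 0, 0, 0, 0, 1, 0; 0, 0, 0, 0, -1, 0, 0; 0, 0, 0, 0, 0, 0, 1]

theorem tables : G2.pk.ng 7 = 4 ∧ G2.pk.ng 6 = 5 ∧ G2.pk.sim 0 = 7 ∧ G2.pk.sim 1 = 6 ∧ G2.pk.rank = 2 ∧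
    (posL G2.pk).all (fun r => [6, 7, 8, 9, 10, 11].contains r) = true := by decide +kernel

theorem M_nt {r r' : ℕ} (hr : r < 12) (hr' : r' < 12) (e : G2.pk.ng r = r') (t : K)
    (g : ↥(chevG2.group K)) (hg : (g : GL chevG2.Idx K) = G2.ok.nt r t) :
    R.M g = Yn r t * Yn r' (-t⁻¹) * Yn r t := by
  have : g = xe r t * xe r' (-t⁻¹) * xe r t := Subtype.ext (by
    rw [hg, Ok.nt, e]; rfl)
  rw [this, map_mul, map_mul, M_xe R hr, M_xe R hr']

theorem nt_mem (r : ℕ) (t : K) : G2.ok.nt r t ∈ chevG2.group K :=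
  mul_mem (mul_mem (G2.ok.mem_group_of_xG _ _) (G2.ok.mem_group_of_xG _ _)) (G2.ok.mem_group_of_xG _ _)

theorem M_na' : ∃ g : ↥(chevG2.group K), (g : GL chevG2.Idx K) = G2.ok.nG 0 ∧ R.M g = naM := by
  refine ⟨⟨_, nt_mem (G2.pk.sim 0) 1⟩, rfl, ?_⟩
  rw [M_nt R (r := 7) (r' := 4) (by omega) (by omega) tables.1 1 _ (by rw [← tables.2.2.1]), nt_seven 1 one_ne_zero]
  ext a b
  fin_cases a <;> fin_cases b <;> simp [naM]

theorem M_nb' : ∃ g : ↥(chevG2.group K), (g : GL chevG2.Idx K) = G2.ok.nG 1 ∧ R.M g = nbM := by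
  refine ⟨⟨_, nt_mem (G2.pk.sim 1) 1⟩, rfl, ?_⟩
  rw [M_nt R (r := 6) (r' := 5) (by omega) (by omega) tables.2.1 1 _ (by rw [← tables.2.2.2.1]), nt_six 1 one_ne_zero]
  ext a b
  fin_cases a <;> fin_cases b <;> simp [nbM]

theorem M_na : ∃ g : ↥(chevG2.group K), R.M g = naM := by
  obtain ⟨g, -, h⟩ := M_na' R
  exact ⟨g, h⟩

theorem M_nb : ∃ g : ↥(chevG2.group K), R.M g = nbM := by
  obtain ⟨g, -, h⟩ := M_nb' R
  exact ⟨g, h⟩

theorem good_diag {g : ↥(chevG2.group K)} (hg : (g : GL chevG2.Idx K) ∈ chevG2.diagonalSubgroup K) :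
    Good (R.M g) := by
  obtain ⟨c, hc⟩ := G2.ok.mem_diagonal_iff.1 hg
  have key : ∀ (i : Fin G2.pk.rank) (u : Kˣ), ∃ x : ↥(chevG2.group K),
      (x : GL chevG2.Idx K) = G2.ok.hHom (Pi.mulSingle i u) ∧ Good (R.M x) := by
    intro i u
    refine ⟨⟨_, nt_mem (G2.pk.sim i.val) (u : K)⟩ * ⟨_, nt_mem (G2.pk.sim i.val) (-1 : K)⟩, ?_, ?_⟩
    · rw [G2.ok.hHom_single, Ok.ht]; rfl
    rw [map_mul]
    have hu : (u : K) ≠ 0 := u.ne_zero
    have h1 : (-1 : K) ≠ 0 := neg_ne_zero.2 one_ne_zero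
    have hi : i.val = 0 ∨ i.val = 1 := by have := i.isLt.trans_eq tables.2.2.2.2.1; omega
    rcases hi with h | h
    · rw [M_nt R (r := 7) (r' := 4) (by omega) (by omega) tables.1 (u : K) _ (by rw [← tables.2.2.1, ← h]),
        M_nt R (r := 7) (r' := 4) (by omega) (by omega) tables.1 (-1) _ (by rw [← tables.2.2.1, ← h]),
        nt_seven _ hu, nt_seven _ h1]
      refine ⟨fun a b hab => ?_, ?_, ?_, ?_, ?_, ?_⟩
      · revert hab; fin_cases a <;> fin_cases b <;> simp [Matrix.mul_apply, Fin.sum_univ_seven]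
      all_goals simp [Matrix.mul_apply, Fin.sum_univ_seven, pow_two, hu, mul_assoc, inv_neg]
    · rw [M_nt R (r := 6) (r' := 5) (by omega) (by omega) tables.2.1 (u : K) _ (by rw [← tables.2.2.2.1, ← h]),
        M_nt R (r := 6) (r' := 5) (by omega) (by omega) tables.2.1 (-1) _ (by rw [← tables.2.2.2.1, ← h]),
        nt_six _ hu, nt_six _ h1]
      refine ⟨fun a b hab => ?_, ?_, ?_, ?_, ?_, ?_⟩
      · revert hab; fin_cases a <;> fin_cases b <;> simp [Matrix.mul_apply, Fin.sum_univ_seven]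
      all_goals simp [Matrix.mul_apply, Fin.sum_univ_seven, hu, inv_neg]
  set j0 : Fin G2.pk.rank := ⟨0, by rw [tables.2.2.2.2.1]; omega⟩ with hj0
  set j1 : Fin G2.pk.rank := ⟨1, by rw [tables.2.2.2.2.1]; omega⟩ with hj1
  have hdec : c = Pi.mulSingle j0 (c j0) * Pi.mulSingle j1 (c j1) := by
    funext j
    have hj : j.val = 0 ∨ j.val = 1 := by have := j.isLt.trans_eq tables.2.2.2.2.1; omega
    rcases hj with h | h
    · obtain rfl : j = j0 := Fin.ext h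
      rw [Pi.mul_apply, Pi.mulSingle_eq_same, Pi.mulSingle_eq_of_ne (by simp [hj0, hj1, Fin.ext_iff]), mul_one]
    · obtain rfl : j = j1 := Fin.ext h
      rw [Pi.mul_apply, Pi.mulSingle_eq_same, Pi.mulSingle_eq_of_ne (by simp [hj0, hj1, Fin.ext_iff]), one_mul]
  obtain ⟨x, hx, gx⟩ := key j0 (c j0)
  obtain ⟨y, hy, gy⟩ := key j1 (c j1)
  have : g = x * y := Subtype.ext (by
    rw [← hc, hdec, map_mul, ← hx, ← hy]; rfl)
  rw [this, map_mul]
  exact gx.mul gy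

theorem good_pos {g : ↥(chevG2.group K)} (hg : (g : GL chevG2.Idx K) ∈ chevG2.posUnipotent K) :
    Good (R.M g) := by
  obtain ⟨t, ht⟩ := G2.ok.pos_normal_form ckComm_G2 hg
  have key : ∀ L : List ℕ, (∀ r ∈ L, r ∈ [6, 7, 8, 9, 10, 11]) →
      ∃ x : ↥(chevG2.group K), (x : GL chevG2.Idx K) = (L.map fun r => G2.ok.xG r (t r)).prod ∧ Good (R.M x) := by
    intro L hL
    induction L with
    | nil => exact ⟨1, rfl, by rw [map_one]; exact good_one⟩
    | cons r L ih =>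
      obtain ⟨x, hx, gx⟩ := ih fun y hy => hL y (List.mem_cons_of_mem _ hy)
      have hr := hL r List.mem_cons_self
      have hr12 : r < 12 := by
        simp only [List.mem_cons, List.not_mem_nil, or_false] at hr; omega
      refine ⟨xe r (t r) * x, by rw [List.map_cons, List.prod_cons, ← hx]; rfl, ?_⟩
      rw [map_mul, M_xe R hr12]
      exact (good_root hr _).mul gx
  obtain ⟨x, hx, gx⟩ := key (posL G2.pk) fun r hr => by
    have := List.all_eq_true.1 tables.2.2.2.2.2 r hr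
    simpa using this
  rwa [show g = x from Subtype.ext (ht.trans hx.symm)]

theorem good_borel {g : ↥(chevG2.group K)} (hg : (g : GL chevG2.Idx K) ∈ chevG2.borelSubgroup K) :
    Good (R.M g) := by
  obtain ⟨u, hu, d, hd, e⟩ := G2.ok.mem_borel hg
  have : g = ⟨u, G2.ok.borel_le_group (Subgroup.mem_sup_left hu)⟩ *
      ⟨d, G2.ok.diagonal_le_group hd⟩ := Subtype.ext e
  rw [this, map_mul]
  exact (good_pos R hu).mul (good_diag R hd)

/-- The signed images of the extended Weyl group. -/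
def perms : List (List ℤ) :=
  [[1, 2, 3, 4, 5, 6, 7],
    [-2, 1, 5, -4, 3, -7, 6],
    [1, -3, 2, 4, -6, 5, 7],
    [-1, -2, 3, 4, 5, -6, -7],
    [3, 1, -6, -4, 2, -7, 5],
    [-2, -5, 1, -4, 7, 3, 6],
    [1, -2, -3, 4, -5, -6, 7],
    [2, -1, 5, -4, 3, 7, -6],
    [-1, 3, 2, 4, -6, -5, -7],
    [5, -2, 7, 4, 1, -6, 3],
    [2, 1, -5, -4, -3, -7, -6],
    [-1, -3, -2, 4, 6, 5, -7],
    [3, 6, 1, -4, 7, 2, 5],
    [-2, -1, -5, -4, -3, 7, 6],
    [1, 3, -2, 4, 6, -5, 7],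
    [-3, -1, -6, -4, 2, 7, -5],
    [2, 5, 1, -4, 7, -3, -6],
    [-1, 2, -3, 4, -5, 6, -7],
    [3, -1, 6, -4, -2, 7, 5],
    [-6, 3, 7, 4, 1, -5, 2],
    [-3, 1, 6, -4, -2, -7, -5],
    [2, -5, -1, -4, -7, 3, -6],
    [5, -7, -2, 4, 6, 1, 3],
    [-2, 5, -1, -4, -7, -3, 6],
    [-5, 2, 7, 4, 1, 6, -3],
    [-3, -6, 1, -4, 7, -2, -5],
    [5, 2, -7, 4, -1, 6, 3],
    [7, 5, 6, -4, -2, -3, 1],
    [-5, -2, -7, 4, -1, -6, -3],
    [-3, 6, -1, -4, -7, 2, -5],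
    [3, -6, -1, -4, -7, -2, 5],
    [-6, -7, 3, 4, 5, 1, 2],
    [6, -3, 7, 4, 1, 5, -2],
    [-5, 7, -2, 4, 6, -1, -3],
    [-6, -3, -7, 4, -1, 5, 2],
    [6, 3, -7, 4, -1, -5, -2],
    [7, -6, 5, -4, 3, -2, 1],
    [-5, -7, 2, 4, -6, 1, -3],
    [5, 7, 2, 4, -6, -1, 3],
    [-7, -5, 6, -4, -2, 3, -1],
    [6, 7, 3, 4, 5, -1, -2],
    [7, -5, -6, -4, 2, 3, 1],
    [-7, 5, -6, -4, 2, -3, -1],
    [6, -7, -3, 4, -5, 1, -2],
    [-6, 7, -3, 4, -5, -1, 2],
    [-7, 6, 5, -4, 3, 2, -1],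
    [7, 6, -5, -4, -3, 2, 1],
    [-7, -6, -5, -4, -3, -2, -1]]

/-- The signed images of the simple reflections. -/
def gens : List (List ℤ) := [[-2, 1, 5, -4, 3, -7, 6], [1, -3, 2, 4, -6, 5, 7]]

/-- The monomial matrix of signed images. -/
def Pm (s : List ℤ) : Mat K :=
  Matrix.of fun i j => if (s.getD j.val 0).natAbs = i.val + 1 then ((s.getD j.val 0).sign : K) else 0

theorem sgn_lit : Int.sign 1 = 1 ∧ Int.sign 2 = 1 ∧ Int.sign 3 = 1 ∧ Int.sign 4 = 1 ∧ Int.sign 5 = 1 ∧ Int.sign 6 = 1 ∧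
    Int.sign 7 = 1 := by decide

theorem Pm_gens : (Pm [-2, 1, 5, -4, 3, -7, 6] : Mat K) = naM ∧ (Pm [1, -3, 2, 4, -6, 5, 7] : Mat K) = nbM := by
  constructor <;> ext a b <;> fin_cases a <;> fin_cases b <;> simp [Pm, naM, nbM, sgn_lit]

/-- Composition. -/
def comp (a s : List ℤ) : List ℤ := s.map fun k => k.sign * a.getD (k.natAbs - 1) 0

theorem perms_closed : (perms.all fun s => gens.all fun a => perms.contains (comp a s)) = true := by decide +kernel

theorem perms_spec : (perms.all fun s => (List.range 7).all fun j =>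
      decide (1 ≤ (s.getD j 0).natAbs ∧ (s.getD j 0).natAbs ≤ 7)) = true ∧
    (perms.all fun s => decide ((s.getD 0 0).natAbs ≠ 1 ∨ ((s.getD 1 0).natAbs = 3 ∧ (s.getD 2 0).natAbs = 2) ∨
      s ∈ [[1, 2, 3, 4, 5, 6, 7], [-1, -2, 3, 4, 5, -6, -7], [1, -2, -3, 4, -5, -6, 7], [-1, 2, -3, 4, -5, 6, -7]])) =
      true ∧
    (perms.all fun s => s.length == 7) = true := by decide +kernel

theorem Pm_mul {a s : List ℤ} (hlen : s.length = 7)
    (hs : ∀ j < 7, 1 ≤ (s.getD j 0).natAbs ∧ (s.getD j 0).natAbs ≤ 7) :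
    (Pm a : Mat K) * Pm s = Pm (comp a s) := by
  ext x y
  obtain ⟨h1, h7⟩ := hs y.val y.isLt
  have hkey : (comp a s).getD y.val 0 = (s.getD y.val 0).sign * a.getD ((s.getD y.val 0).natAbs - 1) 0 := by
    rw [comp, List.getD_eq_getElem (l := s.map _) _ (by simp [hlen, y.isLt]), List.getElem_map,
      List.getD_eq_getElem (l := s) _ (by simp [hlen, y.isLt])]
  have hk : (s.getD y.val 0).natAbs - 1 < 7 := by omega
  rw [Matrix.mul_apply, Finset.sum_eq_single (⟨(s.getD y.val 0).natAbs - 1, hk⟩ : Fin 7)]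
  · simp only [Pm, Matrix.of_apply]
    rw [hkey, if_pos (c := (s.getD y.val 0).natAbs = (s.getD y.val 0).natAbs - 1 + 1) (by omega)]
    have hne : s.getD y.val 0 ≠ 0 := fun e => by rw [e] at h1; simp at h1
    rw [Int.natAbs_mul, Int.natAbs_sign_of_ne_zero hne, one_mul, Int.sign_mul, Int.sign_sign, ite_mul, zero_mul,
      Int.cast_mul, mul_comm]
  · intro k _ hk'
    simp only [Pm, Matrix.of_apply]
    rw [if_neg (c := (s.getD y.val 0).natAbs = k.val + 1) (fun e => hk' (Fin.ext (show k.val = (s.getD y.val 0).natAbs - 1 by omega))), mul_zero]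
  · simp

theorem M_word (l : List ℕ) (hl : WordOk G2.pk l) : ∃ (g : ↥(chevG2.group K)) (s : List ℤ),
    (g : GL chevG2.Idx K) = G2.ok.nW l ∧ s ∈ perms ∧ R.M g = Pm s := by
  induction l with
  | nil =>
    refine ⟨1, [1, 2, 3, 4, 5, 6, 7], rfl, by decide, ?_⟩
    rw [map_one]
    ext a b
    fin_cases a <;> fin_cases b <;> simp [Pm, sgn_lit]
  | cons i l ih =>
    obtain ⟨g, s, hg, hs, hM⟩ := ih fun x hx => hl x (List.mem_cons_of_mem _ hx)
    have hi : i < 2 := tables.2.2.2.2.1 ▸ hl i List.mem_cons_self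
    obtain ⟨n, a, ha, hn, hMn⟩ : ∃ (n : ↥(chevG2.group K)) (a : List ℤ), a ∈ gens ∧
        (n : GL chevG2.Idx K) = G2.ok.nG i ∧ R.M n = Pm a := by
      rcases (show i = 0 ∨ i = 1 by omega) with rfl | rfl
      · obtain ⟨n, hn, hMn⟩ := M_na' R
        exact ⟨n, _, List.mem_cons_self, hn, hMn.trans Pm_gens.1.symm⟩
      · obtain ⟨n, hn, hMn⟩ := M_nb' R
        exact ⟨n, _, List.mem_cons_of_mem _ List.mem_cons_self, hn, hMn.trans Pm_gens.2.symm⟩
    refine ⟨n * g, comp a s, by rw [Ok.nW_cons, ← hg, ← hn]; rfl, ?_, ?_⟩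
    · have := List.all_eq_true.1 (List.all_eq_true.1 perms_closed s hs) a ha
      simpa using this
    · rw [map_mul, hMn, hM]
      have hlen : s.length = 7 := by simpa using List.all_eq_true.1 perms_spec.2.2 s hs
      have hlt := List.all_eq_true.1 perms_spec.1 s hs
      simp only [List.all_eq_true, List.mem_range, decide_eq_true_eq] at hlt
      exact Pm_mul hlen hlt

/-- The Bruhat form in the representation. -/
theorem bruhat_M (g : ↥(chevG2.group K)) : ∃ b s u, Good b ∧ Good u ∧ s ∈ perms ∧ R.M g = b * Pm s * u := by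
  obtain ⟨b, hb, l, hl, u, hu, e⟩ := G2.ok.bruhat_exists ckComm_G2 g.2
  obtain ⟨n, s, hn, hs, hMn⟩ := M_word R l hl
  have hu' := G2.ok.negS_le_pos l hu
  refine ⟨_, s, _, good_borel R (g := ⟨b, G2.ok.borel_le_group hb⟩) hb,
    good_pos R (g := ⟨u, G2.ok.borel_le_group (Subgroup.mem_sup_left hu')⟩) hu', hs, ?_⟩
  rw [← hMn, ← map_mul, ← map_mul]
  congr 1
  exact Subtype.ext (by simp [e, hn])

theorem Good.diag_ne {A : Mat K} (h : Good A) (i : Fin 7) : A i i ≠ 0 := by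
  obtain ⟨-, h0, h6, h5, h4, h3⟩ := h
  fin_cases i
  · exact right_ne_zero_of_mul_eq_one h6
  · exact right_ne_zero_of_mul_eq_one h5
  · exact right_ne_zero_of_mul_eq_one h4
  · show A 3 3 ≠ 0
    rw [h3]; exact one_ne_zero
  · exact left_ne_zero_of_mul_eq_one h4
  · exact left_ne_zero_of_mul_eq_one h5
  · exact left_ne_zero_of_mul_eq_one h6

theorem sign_cast_ne (R : Rep7 K) {z : ℤ} (hz : z ≠ 0) : (z.sign : K) ≠ 0 := by
  rcases Int.lt_or_gt_of_ne hz with h | h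
  · simp [Int.sign_eq_neg_one_of_neg h]
  · simp [Int.sign_eq_one_of_pos h]

/-- An element fixing the first line is block triangular. -/
theorem stab_first (g : ↥(chevG2.group K)) (h : ∀ i, i ≠ 0 → R.M g i 0 = 0) :
    (Good (R.M g)) ∨ R.M g 2 1 ≠ 0 := by
  obtain ⟨b, s, u, hb, hu, hs, e⟩ := bruhat_M R g
  have hlt := List.all_eq_true.1 perms_spec.1 s hs
  simp only [List.all_eq_true, List.mem_range, decide_eq_true_eq] at hlt
  have col : ∀ (j : Fin 7) (k : Fin 7), (s.getD j.val 0).natAbs = k.val + 1 → ∀ i,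
      (b * (Pm s : Mat K)) i j = b i k * ((s.getD j.val 0).sign : K) := by
    intro j k hk i
    rw [Matrix.mul_apply, Finset.sum_eq_single k (fun c _ hc => by
      rw [Pm, Matrix.of_apply, if_neg (fun e => hc (Fin.ext (by omega))), mul_zero]) (by simp), Pm,
      Matrix.of_apply, if_pos hk]
  have nz : ∀ j : Fin 7, ((s.getD j.val 0).sign : K) ≠ 0 := fun j => sign_cast_ne R (fun e => by
    have := (hlt j.val j.isLt).1; rw [e] at this; simp at this)
  have h0 : (s.getD 0 0).natAbs = 1 := by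
    by_contra hne
    have hlt0 := hlt 0 (by norm_num)
    have hk : (s.getD 0 0).natAbs - 1 < 7 := by omega
    have := h ⟨_, hk⟩ (fun e => by
      have hv : (s.getD 0 0).natAbs - 1 = 0 := congrArg Fin.val e
      omega)
    rw [e, Matrix.mul_apply, Finset.sum_eq_single 0 (fun k _ hk => by
      rw [hu.1 k 0 (Fin.pos_iff_ne_zero.2 hk), mul_zero]) (by simp),
      col 0 ⟨_, hk⟩ (show (s.getD 0 0).natAbs = (s.getD 0 0).natAbs - 1 + 1 by omega)] at this
    exact mul_ne_zero (mul_ne_zero (hb.diag_ne _) (nz 0)) (hu.diag_ne _) this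
  have := List.all_eq_true.1 perms_spec.2.1 s hs
  simp only [decide_eq_true_eq, h0, ne_eq, not_true_eq_false, false_or] at this
  rcases this with ⟨h1, h2⟩ | hmem
  · right
    have e1 : R.M g 2 1 = b 2 2 * ((s.getD 1 0).sign : K) * u 1 1 := by
      have hz : ∀ k : Fin 7, k ≠ 1 → (b * (Pm s : Mat K)) 2 k * u k 1 = 0 := fun k hk => by
        rcases lt_trichotomy k 1 with h' | h' | h'
        · obtain rfl : k = 0 := by
            revert h'; fin_cases k <;> simp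
          rw [col 0 0 (by simpa using h0), hb.1 2 0 (by decide), zero_mul, zero_mul]
        · exact absurd h' hk
        · rw [hu.1 k 1 h', mul_zero]
      rw [e, Matrix.mul_apply, Finset.sum_eq_single 1 (fun k _ hk => hz k hk) (by simp), col 1 2 (by simpa using h1)]
      rfl
    rw [e1]
    exact mul_ne_zero (mul_ne_zero (hb.diag_ne _) (nz 1)) (hu.diag_ne _)
  · left
    rw [e]
    refine (hb.mul ?_).mul hu
    simp only [List.mem_cons, List.not_mem_nil, or_false] at hmem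
    refine ⟨fun a c hac => ?_, ?_, ?_, ?_, ?_, ?_⟩
    · rcases hmem with rfl | rfl | rfl | rfl <;> revert hac <;> fin_cases a <;> fin_cases c <;> simp [Pm, sgn_lit]
    all_goals rcases hmem with rfl | rfl | rfl | rfl <;> simp [Pm, sgn_lit]

/-- Isotropic vectors. -/
def Iso7 (v : Fin 7 → K) : Prop := v ⬝ᵥ (J *ᵥ v) = 0

theorem form_move (g : ↥(chevG2.group K)) (v w : Fin 7 → K) :
    (R.M g *ᵥ v) ⬝ᵥ (J *ᵥ (R.M g *ᵥ w)) = v ⬝ᵥ (J *ᵥ w) := by
  conv_rhs => rw [← M_form R g]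
  rw [← Matrix.mulVec_mulVec, ← Matrix.mulVec_mulVec, Matrix.dotProduct_mulVec v, Matrix.vecMul_transpose]

theorem iso_value (v : Fin 7 → K) :
    v ⬝ᵥ (J *ᵥ v) = 2 * (v 0 * v 6) - 2 * (v 1 * v 5) + 2 * (v 2 * v 4) - 2 * (v 3 * v 3) := by
  simp [J, cZ_apply, jZ, Matrix.mulVec, dotProduct, Fin.sum_univ_seven]
  ring

/-- A vector can be moved onto the first line. -/
def Reach (v : Fin 7 → K) : Prop := ∃ (g : ↥(chevG2.group K)) (c : K), R.M g *ᵥ v = Pi.single 0 c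

theorem Reach.step {v : Fin 7 → K} (n : ↥(chevG2.group K)) (h : Reach R (R.M n *ᵥ v)) : Reach R v := by
  obtain ⟨g, c, e⟩ := h
  exact ⟨g * n, c, by rw [map_mul, ← Matrix.mulVec_mulVec, e]⟩

theorem va {na : ↥(chevG2.group K)} (hna : R.M na = naM) (w : Fin 7 → K) :
    R.M na *ᵥ w = ![w 1, -w 0, w 4, -w 3, w 2, w 6, -w 5] := by
  funext i
  fin_cases i <;> simp [hna, naM, Matrix.mulVec, dotProduct, Fin.sum_univ_seven]

theorem vb {nb : ↥(chevG2.group K)} (hnb : R.M nb = nbM) (w : Fin 7 → K) :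
    R.M nb *ᵥ w = ![w 0, w 2, -w 1, w 3, w 5, -w 4, w 6] := by
  funext i
  fin_cases i <;> simp [hnb, nbM, Matrix.mulVec, dotProduct, Fin.sum_univ_seven]

theorem reach_last {v : Fin 7 → K} (hv : Iso7 v) (h6 : v 6 ≠ 0) : Reach R v := by
  refine Reach.step R (xe 7 (-(v 5 / v 6))) ?_
  have hv1' : Iso7 (R.M (xe 7 (-(v 5 / v 6))) *ᵥ v) := (form_move R _ v v).trans hv
  rw [M_xe R (by omega)] at hv1' ⊢
  set v1 := Yn 7 (-(v 5 / v 6)) *ᵥ v with hv1
  have a6 : v1 6 ≠ 0 := by simpa [hv1, Matrix.mulVec, dotProduct, Fin.sum_univ_seven, Yn] using h6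
  have a5 : v1 5 = 0 := by
    simp [hv1, Matrix.mulVec, dotProduct, Fin.sum_univ_seven, Yn, h6]
  clear_value v1
  clear hv1 h6 hv
  refine Reach.step R (xe 8 (-(v1 4 / v1 6))) ?_
  have hv2' : Iso7 (R.M (xe 8 (-(v1 4 / v1 6))) *ᵥ v1) := (form_move R _ v1 v1).trans hv1'
  rw [M_xe R (by omega)] at hv2' ⊢
  set v2 := Yn 8 (-(v1 4 / v1 6)) *ᵥ v1 with hv2
  have b6 : v2 6 ≠ 0 := by simpa [hv2, Matrix.mulVec, dotProduct, Fin.sum_univ_seven, Yn] using a6
  have b5 : v2 5 = 0 := by simp [hv2, Matrix.mulVec, dotProduct, Fin.sum_univ_seven, Yn, a5]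
  have b4 : v2 4 = 0 := by simp [hv2, Matrix.mulVec, dotProduct, Fin.sum_univ_seven, Yn, a6]
  clear_value v2
  clear hv2 hv1'
  refine Reach.step R (xe 9 (v2 3 / v2 6)) ?_
  have hv3' : Iso7 (R.M (xe 9 (v2 3 / v2 6)) *ᵥ v2) := (form_move R _ v2 v2).trans hv2'
  rw [M_xe R (by omega)] at hv3' ⊢
  set v3 := Yn 9 (v2 3 / v2 6) *ᵥ v2 with hv3
  have c6 : v3 6 ≠ 0 := by simpa [hv3, Matrix.mulVec, dotProduct, Fin.sum_univ_seven, Yn] using b6
  have c5 : v3 5 = 0 := by simp [hv3, Matrix.mulVec, dotProduct, Fin.sum_univ_seven, Yn, b5]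
  have c4 : v3 4 = 0 := by simp [hv3, Matrix.mulVec, dotProduct, Fin.sum_univ_seven, Yn, b4]
  have c3 : v3 3 = 0 := by simp [hv3, Matrix.mulVec, dotProduct, Fin.sum_univ_seven, Yn, b6]
  clear_value v3
  clear hv3 hv2'
  refine Reach.step R (xe 10 (v3 2 / v3 6)) ?_
  have hv4' : Iso7 (R.M (xe 10 (v3 2 / v3 6)) *ᵥ v3) := (form_move R _ v3 v3).trans hv3'
  rw [M_xe R (by omega)] at hv4' ⊢
  set v4 := Yn 10 (v3 2 / v3 6) *ᵥ v3 with hv4
  have d6 : v4 6 ≠ 0 := by simpa [hv4, Matrix.mulVec, dotProduct, Fin.sum_univ_seven, Yn] using c6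
  have d5 : v4 5 = 0 := by simp [hv4, Matrix.mulVec, dotProduct, Fin.sum_univ_seven, Yn, c5]
  have d4 : v4 4 = 0 := by simp [hv4, Matrix.mulVec, dotProduct, Fin.sum_univ_seven, Yn, c4]
  have d3 : v4 3 = 0 := by simp [hv4, Matrix.mulVec, dotProduct, Fin.sum_univ_seven, Yn, c3]
  have d2 : v4 2 = 0 := by simp [hv4, Matrix.mulVec, dotProduct, Fin.sum_univ_seven, Yn, c6]
  clear_value v4
  clear hv4 hv3'
  refine Reach.step R (xe 11 (v4 1 / v4 6)) ?_
  have hv5' : Iso7 (R.M (xe 11 (v4 1 / v4 6)) *ᵥ v4) := (form_move R _ v4 v4).trans hv4'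
  rw [M_xe R (by omega)] at hv5' ⊢
  set v5 := Yn 11 (v4 1 / v4 6) *ᵥ v4 with hv5
  have e6 : v5 6 ≠ 0 := by simpa [hv5, Matrix.mulVec, dotProduct, Fin.sum_univ_seven, Yn] using d6
  have e5 : v5 5 = 0 := by simp [hv5, Matrix.mulVec, dotProduct, Fin.sum_univ_seven, Yn, d5]
  have e4 : v5 4 = 0 := by simp [hv5, Matrix.mulVec, dotProduct, Fin.sum_univ_seven, Yn, d4]
  have e3 : v5 3 = 0 := by simp [hv5, Matrix.mulVec, dotProduct, Fin.sum_univ_seven, Yn, d3]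
  have e2 : v5 2 = 0 := by simp [hv5, Matrix.mulVec, dotProduct, Fin.sum_univ_seven, Yn, d2]
  have e1 : v5 1 = 0 := by simp [hv5, Matrix.mulVec, dotProduct, Fin.sum_univ_seven, Yn, d6]
  clear_value v5
  clear hv5 hv4'
  have e0 : v5 0 = 0 := by
    rw [Iso7, iso_value, e5, e4, e3, e2, e1] at hv5'
    simpa [R.two, e6] using hv5'
  obtain ⟨na, hna⟩ := M_na R
  obtain ⟨nb, hnb⟩ := M_nb R
  refine ⟨na * nb * na * nb * na, (R.M (na * nb * na * nb * na) *ᵥ v5) 0, ?_⟩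
  simp only [map_mul, ← Matrix.mulVec_mulVec, va R hna, vb R hnb]
  funext i
  fin_cases i <;> simp [e0, e1, e2, e3, e4, e5]

theorem reach {v : Fin 7 → K} (hv : Iso7 v) : Reach R v := by
  obtain ⟨na, hna⟩ := M_na R
  obtain ⟨nb, hnb⟩ := M_nb R
  have iso : ∀ g, Iso7 (R.M g *ᵥ v) := fun g => (form_move R g v v).trans hv
  by_cases h6 : v 6 ≠ 0
  · exact reach_last R hv h6
  by_cases h5 : v 5 ≠ 0
  · exact Reach.step R na (reach_last R (iso _) (by simpa [va R hna] using h5))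
  by_cases h4 : v 4 ≠ 0
  · exact Reach.step R (na * nb) (reach_last R (iso _) (by
      rw [map_mul]; simp only [← Matrix.mulVec_mulVec, va R hna, vb R hnb]; simpa using h4))
  by_cases h2 : v 2 ≠ 0
  · exact Reach.step R (na * nb * na) (reach_last R (iso _) (by
      rw [map_mul, map_mul]; simp only [← Matrix.mulVec_mulVec, va R hna, vb R hnb]; simpa using h2))
  by_cases h1 : v 1 ≠ 0
  · exact Reach.step R (na * nb * na * nb) (reach_last R (iso _) (by
      rw [map_mul, map_mul, map_mul]; simp only [← Matrix.mulVec_mulVec, va R hna, vb R hnb]; simpa using h1))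
  push Not at h6 h5 h4 h2 h1
  have h3 : v 3 = 0 := by
    rw [Iso7, iso_value, h6, h5, h4, h2, h1] at hv
    simpa [R.two] using hv
  refine ⟨1, v 0, ?_⟩
  rw [map_one, Matrix.one_mulVec]
  funext i
  fin_cases i <;> simp [h1, h2, h3, h4, h5, h6]

theorem eig_in_ker [IsAlgClosed K] {k : ℕ} (hk : k < 7) (A : Mat K) (L : (Fin 7 → K) →ₗ[K] (Fin k → K))
    (hinv : ∀ u, L u = 0 → L (A *ᵥ u) = 0) : ∃ (μ : K) (u : Fin 7 → K), u ≠ 0 ∧ L u = 0 ∧ A *ᵥ u = μ • u := by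
  have hne : LinearMap.ker L ≠ ⊥ := LinearMap.ker_ne_bot_of_finrank_lt (by simpa using hk)
  haveI : Nontrivial (LinearMap.ker L) := Submodule.nontrivial_iff_ne_bot.2 hne
  let f := (Matrix.mulVecLin A).restrict (p := LinearMap.ker L) (q := LinearMap.ker L) fun u hu => by
    simpa using hinv u (by simpa using hu)
  obtain ⟨μ, hμ⟩ := Module.End.exists_eigenvalue f
  obtain ⟨u, hu⟩ := hμ.exists_hasEigenvector
  exact ⟨μ, u.1, fun e => hu.2 (Subtype.ext e), by simpa using u.2, congrArg Subtype.val hu.apply_eq_smul⟩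

/-- The pairing as a linear map. -/
noncomputable def pairing {k : ℕ} (f : Fin k → Fin 7 → K) : (Fin 7 → K) →ₗ[K] (Fin k → K) :=
  Matrix.mulVecLin (Matrix.of fun i j => (Matrix.vecMul (f i) J) j)

theorem pairing_apply {k : ℕ} (f : Fin k → Fin 7 → K) (u : Fin 7 → K) (i : Fin k) :
    pairing f u i = f i ⬝ᵥ (J *ᵥ u) := by
  rw [Matrix.dotProduct_mulVec]
  rfl

theorem exists_iso_eigen [IsAlgClosed K] (g : ↥(chevG2.group K)) :
    ∃ (μ : K) (v : Fin 7 → K), v ≠ 0 ∧ Iso7 v ∧ R.M g *ᵥ v = μ • v := by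
  by_contra hne
  push Not at hne
  have sgn : ∀ (μ : K) v, v ≠ 0 → R.M g *ᵥ v = μ • v → μ = 1 ∨ μ = -1 := by
    intro μ v hv e
    have h := form_move R g v v
    rw [e, Matrix.mulVec_smul, dotProduct_smul, smul_dotProduct, smul_eq_mul, smul_eq_mul] at h
    have : (μ * μ - 1) * (v ⬝ᵥ (J *ᵥ v)) = 0 := by linear_combination h
    rcases mul_eq_zero.1 this with h' | h'
    · exact mul_self_eq_one_iff.1 (sub_eq_zero.1 h')
    · exact absurd e (hne μ v hv h')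
  have inv : ∀ (μ : K) v u, v ≠ 0 → R.M g *ᵥ v = μ • v → v ⬝ᵥ (J *ᵥ u) = 0 → v ⬝ᵥ (J *ᵥ (R.M g *ᵥ u)) = 0 := by
    intro μ v u hv e hu
    have h := form_move R g v u
    rw [e, hu, smul_dotProduct, smul_eq_mul] at h
    rcases sgn μ v hv e with rfl | rfl <;> simpa using h
  have clash : ∀ (μ : K) v w, v ≠ 0 → w ≠ 0 → R.M g *ᵥ v = μ • v → R.M g *ᵥ w = μ • w → v ⬝ᵥ (J *ᵥ w) = 0 → False := by
    intro μ v w hv hw e e' hvw
    have hww : w ⬝ᵥ (J *ᵥ w) ≠ 0 := fun h => hne μ w hw h e'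
    obtain ⟨c, hc⟩ := IsAlgClosed.exists_pow_nat_eq (-(v ⬝ᵥ (J *ᵥ v)) / (w ⬝ᵥ (J *ᵥ w))) (show 0 < 2 by norm_num)
    have hwv : w ⬝ᵥ (J *ᵥ v) = 0 := by
      rw [← hvw]
      simp [J, cZ_apply, jZ, Matrix.mulVec, dotProduct, Fin.sum_univ_seven]
      ring
    refine hne μ (v + c • w) (fun h => ?_) ?_ ?_
    · have hvv : v ⬝ᵥ (J *ᵥ v) ≠ 0 := fun h => hne μ v hv h e
      apply hvv
      rw [eq_neg_of_add_eq_zero_left h, Matrix.mulVec_neg, Matrix.mulVec_smul, dotProduct_neg, neg_dotProduct,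
        dotProduct_smul, smul_dotProduct, neg_neg]
      have : c • (w ⬝ᵥ (J *ᵥ w)) = 0 := by
        have h1 := congrArg (fun x => w ⬝ᵥ (J *ᵥ x)) h
        simpa [Matrix.mulVec_add, Matrix.mulVec_smul, dotProduct_add, hwv] using h1
      rw [this, smul_zero]
    · show (v + c • w) ⬝ᵥ (J *ᵥ (v + c • w)) = 0
      simp only [Matrix.mulVec_add, Matrix.mulVec_smul, dotProduct_add, add_dotProduct, dotProduct_smul,
        smul_dotProduct, hvw, hwv, smul_eq_mul, mul_zero, add_zero, zero_add]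
      field_simp at hc
      linear_combination hc
    · rw [Matrix.mulVec_add, Matrix.mulVec_smul, e, e', smul_add, smul_comm]
  obtain ⟨μ, v, hv, -, e⟩ := eig_in_ker (k := 0) (by norm_num) (R.M g) 0 (fun _ _ => rfl)
  obtain ⟨μ', w, hw, hvw, e'⟩ := eig_in_ker (k := 1) (by norm_num) (R.M g) (pairing ![v]) fun u hu => by
    funext i
    fin_cases i
    have := congrFun hu 0
    rw [pairing_apply] at this ⊢
    exact inv μ v u hv e (by simpa using this)
  have hvw' : v ⬝ᵥ (J *ᵥ w) = 0 := by simpa [pairing_apply] using congrFun hvw 0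
  obtain ⟨μ'', x, hx, hxx, e''⟩ := eig_in_ker (k := 2) (by norm_num) (R.M g) (pairing ![v, w]) fun u hu => by
    funext i
    fin_cases i
    · have := congrFun hu 0
      rw [pairing_apply] at this ⊢
      exact inv μ v u hv e (by simpa using this)
    · have := congrFun hu 1
      rw [pairing_apply] at this ⊢
      exact inv μ' w u hw e' (by simpa using this)
  have hvx : v ⬝ᵥ (J *ᵥ x) = 0 := by simpa [pairing_apply] using congrFun hxx 0
  have hwx : w ⬝ᵥ (J *ᵥ x) = 0 := by simpa [pairing_apply] using congrFun hxx 1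
  rcases sgn μ v hv e with rfl | rfl <;> rcases sgn μ' w hw e' with rfl | rfl <;>
    rcases sgn μ'' x hx e'' with rfl | rfl <;>
    first
      | exact clash _ v w hv hw e e' hvw'
      | exact clash _ v x hv hx e e'' hvx
      | exact clash _ w x hw hx e' e'' hwx

/-- Triangular with the weight shape, up to conjugation. -/
theorem exists_good [IsAlgClosed K] (g : ↥(chevG2.group K)) :
    ∃ C : ↥(chevG2.group K), Good (R.M (C * g * C⁻¹)) := by
  obtain ⟨μ, v, hv0, hiso, hv⟩ := exists_iso_eigen R g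
  obtain ⟨C, c, hC⟩ := reach R hiso
  have hCC : R.M C⁻¹ * R.M C = 1 := by rw [← map_mul, inv_mul_cancel, map_one]
  have hev : R.M (C * g * C⁻¹) *ᵥ Pi.single 0 c = μ • Pi.single 0 c := by
    rw [← hC, Matrix.mulVec_mulVec, map_mul, map_mul, mul_assoc, hCC, mul_one, ← Matrix.mulVec_mulVec, hv,
      Matrix.mulVec_smul]
  have hc : c ≠ 0 := fun h => hv0 (by
    rw [← Matrix.one_mulVec v, ← hCC, ← Matrix.mulVec_mulVec, hC, h, Pi.single_zero, Matrix.mulVec_zero])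
  set g' := C * g * C⁻¹ with hg'
  have h0 : ∀ i, i ≠ 0 → R.M g' i 0 = 0 := fun i hi => by
    have := congrFun hev i
    rw [Matrix.mulVec_single, Pi.smul_apply, Pi.smul_apply, Pi.single_eq_of_ne hi] at this
    simp [hc] at this
    exact this
  rcases stab_first R g' h0 with hgood | h21
  · exact ⟨C, hgood⟩
  obtain ⟨s, hs⟩ : ∃ s : K, R.M g' 1 2 + s * R.M g' 2 2 - s * (R.M g' 1 1 + s * R.M g' 2 1) = 0 := by
    obtain ⟨s, hs⟩ := IsAlgClosed.exists_root (Polynomial.C (-R.M g' 2 1) * Polynomial.X ^ 2 +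
      Polynomial.C (R.M g' 2 2 - R.M g' 1 1) * Polynomial.X + Polynomial.C (R.M g' 1 2)) (by
        rw [Polynomial.degree_quadratic (neg_ne_zero.2 h21)]; decide)
    refine ⟨s, ?_⟩
    simp [Polynomial.IsRoot] at hs
    linear_combination hs
  obtain ⟨nb, hnb⟩ := M_nb R
  have hX : (Yn 6 (-s) : Mat K) * Yn 6 s = 1 := by
    ext i j
    fin_cases i <;> fin_cases j <;> simp [Yn, Matrix.mul_apply, Fin.sum_univ_seven]
  have hXi : R.M (xe 6 s)⁻¹ = Yn 6 (-s) := by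
    calc R.M (xe 6 s)⁻¹ = (Yn 6 (-s) * Yn 6 s) * R.M (xe 6 s)⁻¹ := by rw [hX, one_mul]
      _ = Yn 6 (-s) := by rw [mul_assoc, ← M_xe R (by omega) s, ← map_mul, mul_inv_cancel, map_one, mul_one]
  have hN : (nbMᵀ : Mat K) * nbM = 1 := by
    ext i j
    fin_cases i <;> fin_cases j <;> simp [nbM, Matrix.mul_apply, Fin.sum_univ_seven]
  have hNi : R.M nb⁻¹ = nbMᵀ := by
    calc R.M nb⁻¹ = (nbMᵀ * nbM) * R.M nb⁻¹ := by rw [hN, one_mul]
      _ = nbMᵀ := by rw [mul_assoc, ← hnb, ← map_mul, mul_inv_cancel, map_one, mul_one]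
  refine ⟨nb * xe 6 s * C, ?_⟩
  rw [show nb * xe 6 s * C * g * (nb * xe 6 s * C)⁻¹ = nb * xe 6 s * g' * (xe 6 s)⁻¹ * nb⁻¹ by rw [hg']; group]
  set A := R.M g' with hA
  set B := Yn 6 s * A * Yn 6 (-s) with hB
  have e : R.M (nb * xe 6 s * g' * (xe 6 s)⁻¹ * nb⁻¹) = nbM * B * nbMᵀ := by
    rw [map_mul, map_mul, map_mul, map_mul, hXi, hNi, hnb, M_xe R (by omega), hB, hA]
    simp only [mul_assoc]
  have hP : ∀ i, ((nbM : Mat K) * B * (nbM : Mat K)ᵀ) i 0 = ![B 0 0, B 2 0, -B 1 0, B 3 0, B 5 0, -B 4 0, B 6 0] i ∧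
      ((nbM : Mat K) * B * (nbM : Mat K)ᵀ) 2 1 = -B 1 2 := by
    intro i
    constructor
    · fin_cases i <;> simp [nbM, Matrix.mul_apply, Fin.sum_univ_seven, Matrix.vecMul, dotProduct]
    · simp [nbM, Matrix.mul_apply, Fin.sum_univ_seven, Matrix.vecMul, dotProduct]
  have hB0 : ∀ i, i ≠ 0 → B i 0 = 0 := by
    intro i hi
    rw [hB]
    revert hi
    fin_cases i <;> simp [Yn, Matrix.mul_apply, Fin.sum_univ_seven, Matrix.vecMul, dotProduct, h0]
  have hB12 : B 1 2 = 0 := by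
    rw [← hs, hB]
    simp [Yn, Matrix.mul_apply, Fin.sum_univ_seven, Matrix.vecMul, dotProduct]
    ring
  rcases stab_first R (nb * xe 6 s * g' * (xe 6 s)⁻¹ * nb⁻¹) (fun i hi => by
    rw [e, (hP i).1]
    revert hi
    fin_cases i <;> simp [hB0]) with hgood | hbad
  · exact hgood
  · exact absurd (by rw [e, (hP 0).2, hB12, neg_zero]) hbad

end Cfsg.Agent.G2Odd
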