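/-
Element orders of G₂(q), q odd, from the seven eigenvalues.
-/
import Cfsg.Agent.Lib.G2Odd.Shape

set_option autoImplicit false
set_option linter.unusedSectionVars false
set_option linter.unusedSimpArgs false
set_option maxHeartbeats 1000000

namespace Cfsg.Agent.G2Odd

open Polynomial
open scoped Matrix

variable {K : Type*} [Field K]

/-- The six eigenvalues besides one. -/
noncomputable def six (x y z : K) : Multiset K := {x, x⁻¹, y, y⁻¹, z, z⁻¹}

/-- Their polynomial. -/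
noncomputable def chi (x y z : K) : K[X] := ((six x y z).map fun a => X - C a).prod

/-- The characteristic polynomial. -/
noncomputable def chi7 (x y z : K) : K[X] := (X - C 1) * chi x y z

/-- The diagonal. -/
def dg (x y z : K) : Fin 7 → K := ![z⁻¹, x, y, 1, y⁻¹, x⁻¹, z]

theorem chi_eq (x y z : K) : chi x y z =
    (X - C x) * (X - C x⁻¹) * ((X - C y) * (X - C y⁻¹)) * ((X - C z) * (X - C z⁻¹)) := by
  simp [chi, six, mul_assoc]

theorem chi_perm (x y z : K) : chi x y z = chi y x z ∧ chi x y z = chi z y x := by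
  simp only [chi_eq]
  constructor <;> ring

theorem chi_charpoly {A : Mat K} (h : Good A) :
    ∃ x y z : K, x * y * z = 1 ∧ (∀ i, A i i = dg x y z i) ∧ A.charpoly = chi7 x y z := by
  obtain ⟨h0, h1, h6, h5, h4, h3⟩ := h
  refine ⟨A 1 1, A 2 2, A 6 6, by rw [← h1, mul_comm]; exact h6, fun i => ?_, ?_⟩
  · fin_cases i <;> simp [dg]
    · exact eq_inv_of_mul_eq_one_right h6
    · exact h3
    · exact eq_inv_of_mul_eq_one_left h4
    · exact eq_inv_of_mul_eq_one_left h5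
  · rw [Matrix.charpoly_of_isUpperTriangular _ (fun i j hij => h0 i j hij), Fin.prod_univ_seven, chi7, chi_eq,
      ← eq_inv_of_mul_eq_one_left h5, ← eq_inv_of_mul_eq_one_left h4, ← eq_inv_of_mul_eq_one_right h6, h3]
    ring

theorem roots_chi (x y z : K) : (chi x y z).roots = six x y z := roots_multiset_prod_X_sub_C _

theorem six_frob (φ : K →+* K) {x y z : K} (h : (chi x y z).map φ = chi x y z) :
    six (φ x) (φ y) (φ z) = six x y z := by
  have e : (chi x y z).map φ = chi (φ x) (φ y) (φ z) := by simp [chi_eq, Polynomial.map_mul, map_inv₀]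
  rw [h] at e
  rw [← roots_chi, ← roots_chi, e]

theorem chi_fixed (φ : K →+* K) {x y z : K} (h : (chi7 x y z).map φ = chi7 x y z) :
    (chi x y z).map φ = chi x y z := by
  rw [chi7, Polynomial.map_mul, Polynomial.map_sub, map_X, map_C, map_one] at h
  exact mul_left_cancel₀ (X_sub_C_ne_zero 1) h

/-- A product of linear factors of distinct roots of unity. -/
theorem prod_dvd {n : ℕ} (hn : 0 < n) (s : Multiset K) (hs : s.Nodup) (h : ∀ a ∈ s, a ^ n = 1) :
    (s.map fun a => X - C a).prod ∣ X ^ n - 1 := by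
  rw [Multiset.prod_X_sub_C_dvd_iff_le_roots (by simpa using Polynomial.X_pow_sub_C_ne_zero hn (1 : K)),
    Multiset.le_iff_subset hs]
  intro a ha
  rw [mem_roots (by simpa using Polynomial.X_pow_sub_C_ne_zero hn (1 : K))]
  simp [h a ha]

theorem sub_one_dvd {m n : ℕ} (h : m ∣ n) : (X ^ m - 1 : K[X]) ∣ X ^ n - 1 := by
  obtain ⟨c, rfl⟩ := h
  rw [pow_mul]
  simpa using sub_dvd_pow_sub_pow (X ^ m : K[X]) 1 c

/-- The bound on the orders. -/
def Bound (q p N : ℕ) : Prop :=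
  N = p * (q + 1) ∨ N = p * (q - 1) ∨ N = q * q - 1 ∨ N = q * q + q + 1 ∨ N = q * q - q + 1 ∨
    ((p = 3 ∨ p = 5) ∧ N = p * p)

/-- No two of the six eigenvalues agree, except for an inverse pair. -/
def Regular (x y z : K) : Prop :=
  x ≠ 1 ∧ y ≠ 1 ∧ z ≠ 1 ∧ x ≠ y ∧ x ≠ y⁻¹ ∧ x ≠ z ∧ x ≠ z⁻¹ ∧ y ≠ z ∧ y ≠ z⁻¹

/-- What the eigenvalues give. -/
def Outcome (q p : ℕ) (x y z : K) : Prop :=
  (∃ N, Bound q p N ∧ chi7 x y z ∣ X ^ N - 1) ∨ (p = 3 ∧ chi7 x y z ∣ X ^ 18 - 1) ∨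
    (Regular x y z ∧ ∃ N, Bound q p N ∧ x ^ N = 1 ∧ y ^ N = 1 ∧ z ^ N = 1)

theorem sq_inv_of_pm {q : ℕ} (hq : 1 ≤ q) {x : K} (hx : x ≠ 0) (h : x ^ q = x ∨ x ^ q = x⁻¹) :
    x ^ (q - 1) = 1 ∨ x ^ (q + 1) = 1 := by
  rcases h with h | h
  · left
    have : x ^ (q - 1) * x = 1 * x := by rw [← pow_succ, Nat.sub_add_cancel hq, h, one_mul]
    exact mul_right_cancel₀ hx this
  · right
    rw [pow_succ, h, inv_mul_cancel₀ hx]

theorem self_inv {y : K} (e : y = y⁻¹) (hy0 : y ≠ 0) : y = 1 ∨ y = -1 :=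
  mul_self_eq_one_iff.1 (by nth_rw 2 [e]; exact mul_inv_cancel₀ hy0)

variable {p : ℕ} [Fact p.Prime] [CharP K p]

theorem frob_dvd (n : ℕ) (k : ℕ) : (X ^ n - 1 : K[X]) ^ p ^ k = X ^ (p ^ k * n) - 1 := by
  rw [sub_pow_char_pow, one_pow, ← pow_mul, Nat.mul_comm]

theorem cube_dvd (hp2 : p ≠ 2) (n : ℕ) {P : K[X]} (h : P ∣ (X ^ n - 1) ^ 3) : P ∣ X ^ (p * n) - 1 := by
  have h3 : 3 ≤ p := by have := (Fact.out : p.Prime).two_le; omega
  refine h.trans ((pow_dvd_pow _ h3).trans ?_)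
  rw [← pow_one p, frob_dvd, pow_one]

theorem bound_one {q : ℕ} (hq : 5 ≤ q) (hodd : Odd q) (hp2 : p ≠ 2) (φ : K →+* K) (hφ : ∀ t, φ t = t ^ q)
    {y z : K} (hyz : y * z = 1) (h : (chi 1 y z).map φ = chi 1 y z) : Outcome q p 1 y z := by
  have hp := (Fact.out : p.Prime)
  have hy0 : y ≠ 0 := left_ne_zero_of_mul_eq_one hyz
  obtain rfl : z = y⁻¹ := eq_inv_of_mul_eq_one_right hyz
  have hchi : chi7 1 y y⁻¹ = (X - C (1 : K)) ^ 3 * ((X - C y) * (X - C y⁻¹)) ^ 2 := by
    rw [chi7, chi_eq, inv_one, inv_inv]; ring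
  by_cases h1 : y = 1
  · left
    have e7 : chi7 1 y y⁻¹ = (X - 1) ^ 7 := by rw [hchi, h1, inv_one, map_one]; ring
    rw [e7]
    by_cases h35 : p = 3 ∨ p = 5
    · refine ⟨p * p, Or.inr (Or.inr (Or.inr (Or.inr (Or.inr ⟨h35, rfl⟩)))), ?_⟩
      rw [show p * p = p ^ 2 * 1 by ring, ← frob_dvd, pow_one]
      exact pow_dvd_pow _ (by rcases h35 with rfl | rfl <;> norm_num)
    · refine ⟨p * (q + 1), Or.inl rfl, ?_⟩
      have h7 : 7 ≤ p := by
        have := hp.two_le
        by_contra hlt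
        interval_cases p <;> simp_all (config := {decide := true})
      refine ((pow_dvd_pow _ h7).trans (dvd_of_eq ?_)).trans (sub_one_dvd (Dvd.intro _ rfl))
      have := frob_dvd (K := K) (p := p) 1 1
      simpa using this
  by_cases hm : y = -1
  · have e7 : chi7 1 y y⁻¹ = (X - 1) ^ 3 * (X + 1) ^ 4 := by
      rw [hchi, hm, inv_neg, inv_one, map_neg, map_one]; ring
    rw [Outcome, e7]
    have hsq : (X ^ 2 - 1 : K[X]) = (X - 1) * (X + 1) := by ring
    by_cases h3 : p = 3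
    · right; left
      refine ⟨h3, ?_⟩
      subst h3
      rw [show (18 : ℕ) = 3 ^ 2 * 2 by norm_num, ← frob_dvd, hsq, mul_pow]
      exact mul_dvd_mul (pow_dvd_pow _ (by norm_num)) (pow_dvd_pow _ (by norm_num))
    · left
      refine ⟨p * (q + 1), Or.inl rfl, ?_⟩
      have h5 : 5 ≤ p := by
        have := hp.two_le
        by_contra hlt
        interval_cases p <;> simp_all (config := {decide := true})
      have h2 : 2 ∣ q + 1 := (even_iff_two_dvd).1 hodd.add_one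
      refine dvd_trans ?_ (sub_one_dvd (Nat.mul_dvd_mul_left p h2))
      rw [← pow_one p, ← frob_dvd, hsq, mul_pow, pow_one]
      exact mul_dvd_mul (pow_dvd_pow _ (by omega)) (pow_dvd_pow _ (by omega))
  left
  have hne : y ≠ y⁻¹ := fun e => (self_inv e hy0).elim h1 hm
  have hmem : φ y ∈ six 1 y y⁻¹ := by
    rw [← six_frob φ h]; simp [six]
  have hne1 : φ y ≠ 1 := fun e => h1 (φ.injective (e.trans (map_one φ).symm))
  simp only [six, inv_one, inv_inv, Multiset.insert_eq_cons, Multiset.mem_cons, Multiset.mem_singleton, hφ] at hmem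
  rw [hφ] at hne1
  have hpm : y ^ q = y ∨ y ^ q = y⁻¹ := by tauto
  have key : ∀ n, y ^ n = 1 → 0 < n → chi7 1 y y⁻¹ ∣ X ^ (p * n) - 1 := by
    intro n hn hn0
    refine cube_dvd hp2 n ?_
    have := prod_dvd hn0 ({1, y, y⁻¹} : Multiset K) (by
      simp [hne, Ne.symm h1, h1, inv_eq_one, eq_comm (a := (1 : K))])
      (by simp [hn])
    refine dvd_trans ?_ (pow_dvd_pow_of_dvd this 3)
    rw [hchi]
    exact ⟨(X - C y) * (X - C y⁻¹), by simp; ring⟩
  rcases sq_inv_of_pm (by omega) hy0 hpm with e | e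
  · exact ⟨_, Or.inr (Or.inl rfl), key _ e (by omega)⟩
  · exact ⟨_, Or.inl rfl, key _ e (by omega)⟩

theorem bound_rep {q : ℕ} (hq : 5 ≤ q) (hp2 : p ≠ 2) (φ : K →+* K) (hφ : ∀ t, φ t = t ^ q) {x z : K}
    (hxz : x * x * z = 1) (hx : x ≠ 1) (hz1 : z ≠ 1) (h : (chi x x z).map φ = chi x x z) :
    ∃ N, Bound q p N ∧ chi7 x x z ∣ X ^ N - 1 := by
  classical
  have hx0 : x ≠ 0 := left_ne_zero_of_mul (left_ne_zero_of_mul_eq_one hxz)
  have hz : z = (x * x)⁻¹ := eq_inv_of_mul_eq_one_right hxz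
  have hxm : x ≠ -1 := fun e => hz1 (by rw [hz, e]; simp)
  have hxx : x ≠ x⁻¹ := fun e => (self_inv e hx0).elim hx hxm
  have hz2 : z ≠ x⁻¹ := fun e => hx (by
    have : x * x * x⁻¹ = 1 := e ▸ hxz
    rwa [mul_assoc, mul_inv_cancel₀ hx0, mul_one] at this)
  have hcount : 2 ≤ (six x x z).count (φ x) := by
    rw [← six_frob φ h]
    simp [six, Multiset.count_cons]
    try omega
  have hpm : φ x = x ∨ φ x = x⁻¹ := by
    by_contra hne
    push Not at hne
    simp [six, Multiset.count_cons, Multiset.count_singleton, hne.1, hne.2] at hcount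
    split_ifs at hcount with h1 h2
    all_goals first
      | omega
      | (have hzz : z = z⁻¹ := by first | exact h1.symm.trans h2 | exact h2.symm.trans h1
         rcases self_inv hzz (right_ne_zero_of_mul_eq_one hxz) with e | e
         · exact hz1 e
         · refine hxm (φ.injective ?_)
           rw [map_neg, map_one, ← e]
           first | exact h1 | exact h2 | exact h1.trans hzz.symm)
  rw [hφ] at hpm
  have key : ∀ n, x ^ n = 1 → 0 < n → chi7 x x z ∣ X ^ (p * n) - 1 := by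
    intro n hn hn0
    refine cube_dvd hp2 n ?_
    have hzn : z ^ n = 1 := by rw [hz, inv_pow, mul_pow, hn, one_mul, inv_one]
    have d1 := prod_dvd hn0 ({1, x, x⁻¹} : Multiset K) (by
      simp [hxx, Ne.symm hx, hx, inv_eq_one, eq_comm (a := (1 : K))]) (by simp [hn])
    by_cases hzx : z = x
    · have d2 := prod_dvd hn0 ({x, x⁻¹} : Multiset K) (by simpa using hxx) (by simp [hn])
      refine dvd_trans (dvd_of_eq ?_) (dvd_trans (mul_dvd_mul (mul_dvd_mul d1 d2) d2) (dvd_of_eq (by ring)))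
      rw [chi7, chi_eq, hzx]
      simp
      ring
    · have d2 := prod_dvd hn0 ({x, x⁻¹, z} : Multiset K) (by
        simp [hxx, Ne.symm hzx, hz2.symm]) (by simp [hn, hzn])
      have d3 := prod_dvd hn0 ({z⁻¹} : Multiset K) (by simp) (by simp [hzn])
      refine dvd_trans (dvd_of_eq ?_) (dvd_trans (mul_dvd_mul (mul_dvd_mul d1 d2) d3) (dvd_of_eq (by ring)))
      rw [chi7, chi_eq]
      simp
      ring
  rcases sq_inv_of_pm (by omega) hx0 hpm with e | e
  · exact ⟨_, Or.inr (Or.inl rfl), key _ e (by omega)⟩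
  · exact ⟨_, Or.inl rfl, key _ e (by omega)⟩

omit [Fact p.Prime] [CharP K p] in
theorem sign_eq {u v w a b c : K} (huvw : u * v * w = 1)
    (habc : a * b * c = 1) (ha : a = u ∨ a = u⁻¹) (hb : b = v ∨ b = v⁻¹) (hc : c = w ∨ c = w⁻¹) :
    (a = u ∧ b = v ∧ c = w) ∨ (a = u⁻¹ ∧ b = v⁻¹ ∧ c = w⁻¹) := by
  have hu0 : u ≠ 0 := left_ne_zero_of_mul (left_ne_zero_of_mul_eq_one huvw)
  have hv0 : v ≠ 0 := right_ne_zero_of_mul (left_ne_zero_of_mul_eq_one huvw)
  have hw0 : w ≠ 0 := right_ne_zero_of_mul_eq_one huvw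
  rcases ha with ha | ha <;> rcases hb with hb | hb <;> rcases hc with hc | hc <;> rw [ha, hb, hc] at habc
  · exact Or.inl ⟨ha, hb, hc⟩
  · have : w⁻¹ = w := inv_eq_of_mul_eq_one_right (by field_simp at habc; linear_combination huvw - w * habc)
    exact Or.inl ⟨ha, hb, hc.trans this⟩
  · have : v⁻¹ = v := inv_eq_of_mul_eq_one_right (by field_simp at habc; linear_combination huvw - v * habc)
    exact Or.inl ⟨ha, hb.trans this, hc⟩
  · have : u⁻¹ = u := inv_eq_of_mul_eq_one_right (by field_simp at habc; linear_combination u * habc + huvw)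
    exact Or.inr ⟨ha.trans this.symm, hb, hc⟩
  · have : u⁻¹ = u := inv_eq_of_mul_eq_one_right (by field_simp at habc; linear_combination huvw - u * habc)
    exact Or.inl ⟨ha.trans this, hb, hc⟩
  · have : v⁻¹ = v := inv_eq_of_mul_eq_one_right (by field_simp at habc; linear_combination v * habc + huvw)
    exact Or.inr ⟨ha, hb.trans this.symm, hc⟩
  · have : w⁻¹ = w := inv_eq_of_mul_eq_one_right (by field_simp at habc; linear_combination w * habc + huvw)
    exact Or.inr ⟨ha, hb, hc.trans this.symm⟩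
  · exact Or.inr ⟨ha, hb, hc⟩

theorem bound_chi {q : ℕ} (hq : 5 ≤ q) (hodd : Odd q) (hp2 : p ≠ 2) (φ : K →+* K) (hφ : ∀ t, φ t = t ^ q) {x y z : K}
    (hxyz : x * y * z = 1) (h7 : (chi7 x y z).map φ = chi7 x y z) : Outcome q p x y z := by
  have h := chi_fixed φ h7
  by_cases hx : x = 1
  · subst hx
    exact bound_one hq hodd hp2 φ hφ (by rwa [one_mul] at hxyz) h
  by_cases hy : y = 1
  · subst hy
    rw [(chi_perm x 1 z).1] at h
    rcases bound_one hq hodd hp2 φ hφ (by rwa [mul_one] at hxyz) h with ⟨N, hN, hd⟩ | ⟨hp, hd⟩ | ⟨hr, -⟩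
    · exact Or.inl ⟨N, hN, by rwa [chi7, (chi_perm x 1 z).1]⟩
    · exact Or.inr (Or.inl ⟨hp, by rwa [chi7, (chi_perm x 1 z).1]⟩)
    · exact absurd rfl hr.1
  by_cases hz : z = 1
  · subst hz
    rw [(chi_perm x y 1).2] at h
    rcases bound_one hq hodd hp2 φ hφ (by rw [mul_one, mul_comm] at hxyz; exact hxyz) h with
      ⟨N, hN, hd⟩ | ⟨hp, hd⟩ | ⟨hr, -⟩
    · exact Or.inl ⟨N, hN, by rwa [chi7, (chi_perm x y 1).2]⟩
    · exact Or.inr (Or.inl ⟨hp, by rwa [chi7, (chi_perm x y 1).2]⟩)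
    · exact absurd rfl hr.1
  have hx0 : x ≠ 0 := left_ne_zero_of_mul (left_ne_zero_of_mul_eq_one hxyz)
  have hy0 : y ≠ 0 := right_ne_zero_of_mul (left_ne_zero_of_mul_eq_one hxyz)
  have hz0 : z ≠ 0 := right_ne_zero_of_mul_eq_one hxyz
  by_cases exy : x = y
  · subst exy
    exact Or.inl (bound_rep hq hp2 φ hφ hxyz hx hz h)
  by_cases exz : x = z
  · subst exz
    have e : chi x y x = chi x x y := by simp only [chi_eq]; ring
    rw [e] at h
    obtain ⟨N, hN, hd⟩ := bound_rep hq hp2 φ hφ (by rw [← hxyz]; ring) hx hy h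
    exact Or.inl ⟨N, hN, by rwa [chi7, e]⟩
  by_cases eyz : y = z
  · subst eyz
    have e : chi x y y = chi y y x := by simp only [chi_eq]; ring
    rw [e] at h
    obtain ⟨N, hN, hd⟩ := bound_rep hq hp2 φ hφ (by rw [← hxyz]; ring) hy hx h
    exact Or.inl ⟨N, hN, by rwa [chi7, e]⟩
  have nxy : x ≠ y⁻¹ := fun e => hz (by rw [e, inv_mul_cancel₀ hy0, one_mul] at hxyz; exact hxyz)
  have nxz : x ≠ z⁻¹ := fun e => hy (by
    rw [e, mul_right_comm, inv_mul_cancel₀ hz0, one_mul] at hxyz; exact hxyz)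
  have nyz : y ≠ z⁻¹ := fun e => hx (by rw [e, mul_assoc, inv_mul_cancel₀ hz0, mul_one] at hxyz; exact hxyz)
  have finish : ∀ N, 0 < N → Bound q p N → x ^ N = 1 → y ^ N = 1 → Outcome q p x y z := by
    intro N hN hB h1 h2
    refine Or.inr (Or.inr ⟨⟨hx, hy, hz, exy, nxy, exz, nxz, eyz, nyz⟩, N, hB, h1, h2, ?_⟩)
    have := congrArg (fun t : K => t ^ N) hxyz
    simpa [mul_pow, h1, h2] using this
  have hmem : ∀ t, t = x ∨ t = y ∨ t = z → (φ t = x ∨ φ t = x⁻¹) ∨ (φ t = y ∨ φ t = y⁻¹) ∨ (φ t = z ∨ φ t = z⁻¹) := by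
    intro t ht
    have : φ t ∈ six x y z := by
      rw [← six_frob φ h]
      rcases ht with rfl | rfl | rfl <;> simp [six]
    simp only [six, Multiset.insert_eq_cons, Multiset.mem_cons, Multiset.mem_singleton] at this
    tauto
  have clash : ∀ a b u : K, a ≠ b → a ≠ b⁻¹ → (φ a = u ∨ φ a = u⁻¹) → (φ b = u ∨ φ b = u⁻¹) → False := by
    intro a b u h1 h2 ha hb
    have hab : φ a = φ b ∨ φ a = φ b⁻¹ := by
      rw [map_inv₀]
      rcases ha with ha | ha <;> rcases hb with hb | hb <;> rw [ha, hb] <;> simp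
    exact hab.elim (fun e => h1 (φ.injective e)) (fun e => h2 (φ.injective e))
  have hprod : φ x * φ y * φ z = 1 := by rw [← map_mul, ← map_mul, hxyz, map_one]
  have hq2 : ∀ t, φ (φ t) = t ^ (q * q) := fun t => by rw [hφ, hφ, ← pow_mul]
  have invol : φ (φ x) = x → φ (φ y) = y → Outcome q p x y z := by
    intro h1 h2
    have hqq : 1 ≤ q * q := Nat.one_le_iff_ne_zero.2 (by positivity)
    refine finish (q * q - 1) (by
      have : 5 * 5 ≤ q * q := Nat.mul_le_mul hq hq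
      omega) (Or.inr (Or.inr (Or.inl rfl))) ?_ ?_
    · refine mul_right_cancel₀ hx0 ?_
      rw [← pow_succ, Nat.sub_add_cancel hqq, one_mul, ← hq2, h1]
    · refine mul_right_cancel₀ hy0 ?_
      rw [← pow_succ, Nat.sub_add_cancel hqq, one_mul, ← hq2, h2]
  have cplus : φ (φ x) * φ x * x = 1 → φ (φ y) * φ y * y = 1 → Outcome q p x y z := by
    intro h1 h2
    refine finish (q * q + q + 1) (by omega) (Or.inr (Or.inr (Or.inr (Or.inl rfl)))) ?_ ?_
    · rw [pow_succ, pow_add, ← hq2, ← hφ, h1]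
    · rw [pow_succ, pow_add, ← hq2, ← hφ, h2]
  have cminus : φ (φ x) * x = φ x → φ (φ y) * y = φ y → Outcome q p x y z := by
    intro h1 h2
    have hle : q ≤ q * q := Nat.le_mul_self q
    refine finish (q * q - q + 1) (by omega) (Or.inr (Or.inr (Or.inr (Or.inr (Or.inl rfl))))) ?_ ?_
    · refine mul_right_cancel₀ (pow_ne_zero q hx0) ?_
      rw [← pow_add, one_mul, show q * q - q + 1 + q = q * q + 1 by omega, pow_succ, ← hq2, ← hφ, h1]
    · refine mul_right_cancel₀ (pow_ne_zero q hy0) ?_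
      rw [← pow_add, one_mul, show q * q - q + 1 + q = q * q + 1 by omega, pow_succ, ← hq2, ← hφ, h2]
  have ez : z = x⁻¹ * y⁻¹ := by field_simp; linear_combination hxyz
  rcases hmem x (Or.inl rfl) with hA | hA | hA <;> rcases hmem y (Or.inr (Or.inl rfl)) with hB | hB | hB <;>
    rcases hmem z (Or.inr (Or.inr rfl)) with hC | hC | hC
  all_goals first
    | exact (clash x y _ exy nxy hA hB).elim
    | exact (clash x z _ exz nxz hA hC).elim
    | exact (clash y z _ eyz nyz hB hC).elim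
    | skip
  · rcases sign_eq hxyz hprod hA hB hC with ⟨a, b, c⟩ | ⟨a, b, c⟩ <;>
      apply invol <;> simp [a, b, c, map_inv₀]
  · rcases sign_eq (by rw [← hxyz]; ring) hprod hA hB hC with ⟨a, b, c⟩ | ⟨a, b, c⟩ <;>
      apply invol <;> simp [a, b, c, map_inv₀]
  · rcases sign_eq (by rw [← hxyz]; ring) hprod hA hB hC with ⟨a, b, c⟩ | ⟨a, b, c⟩ <;>
      apply invol <;> simp [a, b, c, map_inv₀]
  · rcases sign_eq (by rw [← hxyz]; ring) hprod hA hB hC with ⟨a, b, c⟩ | ⟨a, b, c⟩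
    · refine cplus ?_ ?_ <;> simp only [a, b, c] <;> rw [← hxyz] <;> ring
    · refine cminus ?_ ?_ <;> simp only [a, b, c, map_inv₀, inv_inv] <;> field_simp <;> linear_combination hxyz
  · rcases sign_eq (by rw [← hxyz]; ring) hprod hA hB hC with ⟨a, b, c⟩ | ⟨a, b, c⟩
    · refine cplus ?_ ?_ <;> simp only [a, b, c] <;> rw [← hxyz] <;> ring
    · refine cminus ?_ ?_ <;> simp only [a, b, c, map_inv₀, inv_inv] <;> field_simp <;> linear_combination hxyz
  · rcases sign_eq (by rw [← hxyz]; ring) hprod hA hB hC with ⟨a, b, c⟩ | ⟨a, b, c⟩ <;>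
      apply invol <;> simp [a, b, c, map_inv₀]

end Cfsg.Agent.G2Odd
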