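/-
A cyclic element of G₂ with prescribed invariants.
-/
import Cfsg.Agent.Lib.G2Odd.Shape

set_option autoImplicit false
set_option linter.unusedSectionVars false
set_option linter.unusedSimpArgs false
set_option linter.style.longLine false
set_option maxHeartbeats 4000000

namespace Cfsg.Agent.G2Odd

open Polynomial
open scoped Matrix

variable {F : Type*} [Field F]

/-- The section element. -/
def secM (s r : F) : Mat F :=
  !![-s, -r, 1, 0, 0, 0, 0; -1, 0, 0, 0, 0, 0, 0; 0, -(s ^ 2), 0, -(2 * s), -r, 1, 0; 0, -s, 0, -1, 0, 0, 0; 0, -1, 0, 0, 0, 0, 0; 0, 0, 0, 0, s, 0, 1; 0, 0, 0, 0, 1, 0, 0]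

/-- Its Krylov matrix at the first basis vector. -/
def kry (s r : F) : Mat F :=
  !![1, -s, r + s ^ 2, -(2 * s * r) + s ^ 2 - s ^ 3, -r + r ^ 2 - 2 * s ^ 2 + 3 * s ^ 2 * r - 2 * s ^ 3 + s ^ 4, s + 2 * s * r - 3 * s * r ^ 2 + 2 * s ^ 2 + 2 * s ^ 2 * r + 4 * s ^ 3 - 4 * s ^ 3 * r + 3 * s ^ 4 - s ^ 5, 1 - 2 * r ^ 2 + r ^ 3 - 4 * s ^ 2 - 7 * s ^ 2 * r + 6 * s ^ 2 * r ^ 2 - 4 * s ^ 3 - 6 * s ^ 3 * r - 5 * s ^ 4 + 5 * s ^ 4 * r - 4 * s ^ 5 + s ^ 6; 0, -1, s, -r - s ^ 2, 2 * s * r - s ^ 2 + s ^ 3, r - r ^ 2 + 2 * s ^ 2 - 3 * s ^ 2 * r + 2 * s ^ 3 - s ^ 4, -s - 2 * s * r + 3 * s * r ^ 2 - 2 * s ^ 2 - 2 * s ^ 2 * r - 4 * s ^ 3 + 4 * s ^ 3 * r - 3 * s ^ 4 + s ^ 5; 0, 0, s ^ 2, -r - 2 * s ^ 2 - s ^ 3, s + s * r + 2 * s ^ 2 + s ^ 2 * r + 2 * s ^ 3 + s ^ 4, 1 - r ^ 2 - 3 * s ^ 2 - 3 * s ^ 2 * r - 2 * s ^ 3 - 2 * s ^ 3 * r - s ^ 4 - s ^ 5, -s + s * r + 2 * s *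 r ^ 2 + 2 * s ^ 2 + s ^ 2 * r ^ 2 + 3 * s ^ 3 + 5 * s ^ 3 * r - 2 * s ^ 4 + 3 * s ^ 4 * r + s ^ 6; 0, 0, s, -s - s ^ 2, s + s * r + s ^ 2 + s ^ 3, -s - s * r - s ^ 2 - 2 * s ^ 2 * r - s ^ 4, s + s * r ^ 2 + s ^ 2 + 2 * s ^ 2 * r - 2 * s ^ 3 + 3 * s ^ 3 * r - s ^ 4 + s ^ 5; 0, 0, 1, -s, r + s ^ 2, -(2 * s * r) + s ^ 2 - s ^ 3, -r + r ^ 2 - 2 * s ^ 2 + 3 * s ^ 2 * r - 2 * s ^ 3 + s ^ 4; 0, 0, 0, s, 1 - s ^ 2, -s + s * r + s ^ 3, r + s ^ 2 - 2 * s ^ 2 * r + s ^ 3 - s ^ 4; 0, 0, 0, 1, -s, r + s ^ 2, -(2 * s * r) + s ^ 2 - s ^ 3]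

/-- The adjugate of the Krylov matrix. -/
def kryAdj (s r : F) : Mat F :=
  !![s, -(s ^ 2), -s - s ^ 2, -1 + 4 * s ^ 2 + 2 * s ^ 3, s - s * r - 3 * s ^ 3 - s ^ 4, s + s * r + s ^ 2 + s ^ 3, -s - s * r - s ^ 2 - 2 * s ^ 2 * r - s ^ 4; 0, -s, s * r - s ^ 2, -s - 2 * s ^ 2 - 2 * s ^ 2 * r + 2 * s ^ 3, 2 * s ^ 2 + 2 * s ^ 3 + s ^ 3 * r - s ^ 4, s ^ 2 - s ^ 2 * r + 2 * s ^ 3, -(s * r) + s * r ^ 2 - s ^ 2 - s ^ 2 * r - 3 * s ^ 3 + s ^ 3 * r - 2 * s ^ 4; 0, 0, s * r + s ^ 3, r + 2 * s ^ 2 - 2 * s ^ 2 * r - 2 * s ^ 4, s - s * r - 2 * s ^ 3 + s ^ 3 * r + s ^ 5, -(2 * s * r) - s ^ 2 * r - 2 * s ^ 3 - s ^ 4, s * r + s * r ^ 2 + s ^ 2 + 2 * s ^ 2 * r + 2 * s ^ 3 + 2 * s ^ 3 * r + 2 * s ^ 4 + s ^ 5; 0, 0, -(s * r) - s ^ 3, -(s ^ 2) + 2 * s ^ 2 * r + 2 * s ^ 4, s ^ 3 - s ^ 3 * r - s ^ 5, s ^ 2 + s ^ 2 * r + s ^ 3 + s ^ 4, s - s * r ^ 2 - 2 * s ^ 3 - 2 * s ^ 3 *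 r - s ^ 4 - s ^ 5; 0, 0, -(s * r) + s ^ 2, -r + 2 * s ^ 2 * r - 2 * s ^ 3, s * r - s ^ 3 * r + s ^ 4, s + s * r + s ^ 2 * r - s ^ 3, -(s * r) - s * r ^ 2 - s ^ 2 - s ^ 3 * r + s ^ 4; 0, 0, s + s ^ 2, s - 2 * s ^ 2 - 2 * s ^ 3, -(s ^ 2) + s ^ 3 + s ^ 4, -(2 * s ^ 2) - s ^ 3, s * r + s ^ 2 + s ^ 2 * r + 2 * s ^ 3 + s ^ 4; 0, 0, s, 1 - 2 * s ^ 2, -s + s ^ 3, -s - s ^ 2, s + s * r + s ^ 2 + s ^ 3]

/-- The next Krylov vector. -/
def kryLast (s r : F) : Fin 7 → F := ![-(2 * s) + 2 * s * r + 6 * s * r ^ 2 - 4 * s * r ^ 3 + 2 * s ^ 2 + 2 * s ^ 2 * r + 3 * s ^ 2 * r ^ 2 + 7 * s ^ 3 + 16 * s ^ 3 * r - 10 * s ^ 3 * r ^ 2 + 2 * s ^ 4 + 12 * s ^ 4 * r + 5 * s ^ 5 - 6 * s ^ 5 * r + 5 * s ^ 6 - s ^ 7, -1 + 2 * r ^ 2 - r ^ 3 + 4 * s ^ 2 + 7 * s ^ 2 * r - 6 * s ^ 2 * r ^ 2 + 4 * s ^ 3 + 6 * s ^ 3 * r + 5 * s ^ 4 - 5 * s ^ 4 * r + 4 * s ^ 5 - s ^ 6, r + r ^ 2 - r ^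 3 - s ^ 2 - 5 * s ^ 2 * r ^ 2 - 3 * s ^ 3 * r ^ 2 + 5 * s ^ 4 - 5 * s ^ 4 * r + 6 * s ^ 5 - 4 * s ^ 5 * r + s ^ 6 - s ^ 7, -s - s * r ^ 2 - 3 * s ^ 2 * r ^ 2 + 4 * s ^ 3 - s ^ 3 * r + 5 * s ^ 4 - 4 * s ^ 4 * r + 2 * s ^ 5 - s ^ 6, s + 2 * s * r - 3 * s * r ^ 2 + 2 * s ^ 2 + 2 * s ^ 2 * r + 4 * s ^ 3 - 4 * s ^ 3 * r + 3 * s ^ 4 - s ^ 5, -(3 * s * r) + s * r ^ 2 + s ^ 2 - 3 * s ^ 3 + 3 * s ^ 3 * r - 2 * s ^ 4 + s ^ 5, -r + r ^ 2 - 2 * s ^ 2 + 3 * s ^ 2 * r - 2 * s ^ 3 + s ^ 4]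

/-- The sextic factor of the characteristic polynomial of the section element. -/
noncomputable def secQ (s r : F) : F[X] :=
  X ^ 6 + C (2 + s) * X ^ 5 + C (2 - r + 2 * s) * X ^ 4 + C (2 - 2 * r + 2 * s - s ^ 2) * X ^ 3 +
    C (2 - r + 2 * s) * X ^ 2 + C (2 + s) * X + 1

/-- The characteristic polynomial of the section element. -/
noncomputable def secP (s r : F) : F[X] := (X - 1) * secQ s r

theorem secP_eq (s r : F) : secP s r = X ^ 7 + C (1 + s) * X ^ 6 + C (s - r) * X ^ 5 + C (-r - s ^ 2) * X ^ 4 +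
    C (r + s ^ 2) * X ^ 3 + C (r - s) * X ^ 2 + C (-1 - s) * X + C (-1) := by
  simp only [secP, secQ, C_add, C_sub, C_mul, C_pow, C_neg, C_1, C_ofNat]
  ring

theorem sec_eq (R : Rep7 F) (s r : F) : ∃ g : ↥(Cfsg.Lie.chevG2.group F), R.M g = secM s r := by
  obtain ⟨g7, h7⟩ := M_na R
  obtain ⟨g6, h6⟩ := M_nb R
  refine ⟨xe 7 s * g7 * xe 6 r * g6, ?_⟩
  have ea : Yn 7 s * naM = !![-(s), 1, 0, 0, 0, 0, 0; -1, 0, 0, 0, 0, 0, 0; 0, 0, s ^ 2, -(2 * s), 1, 0, 0; 0, 0, s, -1, 0, 0, 0; 0, 0, 1, 0, 0, 0, 0; 0, 0, 0, 0, 0, -(s), 1; 0, 0, 0, 0, 0, -1, 0] := by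
    ext i j
    fin_cases i <;> fin_cases j <;> simp [Yn, naM, Matrix.mul_apply, Fin.sum_univ_seven]
  have eb : Yn 6 r * nbM = !![1, 0, 0, 0, 0, 0, 0; 0, -(r), 1, 0, 0, 0, 0; 0, -1, 0, 0, 0, 0, 0; 0, 0, 0, 1, 0, 0, 0; 0, 0, 0, 0, -(r), 1, 0; 0, 0, 0, 0, -1, 0, 0; 0, 0, 0, 0, 0, 0, 1] := by
    ext i j
    fin_cases i <;> fin_cases j <;> simp [Yn, nbM, Matrix.mul_apply, Fin.sum_univ_seven]
  rw [map_mul, map_mul, map_mul, M_xe R (by omega), M_xe R (by omega), h7, h6, mul_assoc, eb, ea]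
  ext i j
  fin_cases i <;> fin_cases j <;> simp [secM, Matrix.mul_apply, Fin.sum_univ_seven]

theorem kry_step (s r : F) (j : Fin 6) :
    secM s r *ᵥ (fun i => kry s r i j.castSucc) = fun i => kry s r i j.succ := by
  funext i
  fin_cases j <;> fin_cases i <;> simp [secM, kry, Matrix.mulVec, dotProduct, Fin.sum_univ_seven] <;> ring

theorem kry_last (s r : F) : secM s r *ᵥ (fun i => kry s r i 6) = kryLast s r := by
  funext i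
  fin_cases i <;> simp [secM, kry, kryLast, Matrix.mulVec, dotProduct, Fin.sum_univ_seven] <;> ring

theorem kry_adj (s r : F) : kry s r * kryAdj s r = s • 1 := by
  ext i j
  fin_cases i <;> fin_cases j <;> simp [kry, kryAdj, Matrix.mul_apply, Fin.sum_univ_seven] <;> ring

theorem kry_inv {s : F} (hs : s ≠ 0) (r : F) : kry s r * (s⁻¹ • kryAdj s r) = 1 := by
  rw [mul_smul_comm, kry_adj, smul_smul, inv_mul_cancel₀ hs, one_smul]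

theorem kry_rel (s r : F) : kryLast s r + (1 + s) • (fun i => kry s r i 6) + (s - r) • (fun i => kry s r i 5) +
    (-r - s ^ 2) • (fun i => kry s r i 4) + (r + s ^ 2) • (fun i => kry s r i 3) + (r - s) • (fun i => kry s r i 2) +
    (-1 - s) • (fun i => kry s r i 1) + (-1 : F) • (fun i => kry s r i 0) = 0 := by
  funext i
  simp only [Pi.add_apply, Pi.smul_apply, smul_eq_mul]
  fin_cases i <;> simp [kry, kryLast] <;> ring

theorem kry_pow (s r : F) (j : Fin 7) : secM s r ^ j.val *ᵥ Pi.single 0 1 = fun i => kry s r i j := by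
  have h0 : (fun i => kry s r i 0) = Pi.single 0 1 := by
    funext i
    fin_cases i <;> simp [kry]
  obtain ⟨n, hn⟩ := j
  induction n with
  | zero => rw [pow_zero, Matrix.one_mulVec]; exact h0.symm
  | succ n ih =>
    rw [pow_succ', ← Matrix.mulVec_mulVec, ih (by omega)]
    exact kry_step s r ⟨n, by omega⟩

theorem aeval_secP {s : F} (hs : s ≠ 0) (r : F) : aeval (secM s r) (secP s r) = 0 := by
  set M := secM s r
  have e0 : aeval M (secP s r) *ᵥ Pi.single 0 1 = 0 := by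
    have h7 : M ^ 7 *ᵥ Pi.single 0 1 = kryLast s r := by
      rw [pow_succ', ← Matrix.mulVec_mulVec]
      exact (congrArg (M *ᵥ ·) (kry_pow s r 6)).trans (kry_last s r)
    have h1 : M *ᵥ Pi.single 0 1 = fun i => kry s r i 1 := by
      have := kry_pow s r 1
      rwa [Fin.val_one, pow_one] at this
    have h0 : (Pi.single 0 1 : Fin 7 → F) = fun i => kry s r i 0 := by
      have := kry_pow s r 0
      rwa [Fin.val_zero, pow_zero, Matrix.one_mulVec] at this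
    have h6 : M ^ 6 *ᵥ Pi.single 0 1 = fun i => kry s r i 6 := kry_pow s r 6
    have h5 : M ^ 5 *ᵥ Pi.single 0 1 = fun i => kry s r i 5 := kry_pow s r 5
    have h4 : M ^ 4 *ᵥ Pi.single 0 1 = fun i => kry s r i 4 := kry_pow s r 4
    have h3 : M ^ 3 *ᵥ Pi.single 0 1 = fun i => kry s r i 3 := kry_pow s r 3
    have h2 : M ^ 2 *ᵥ Pi.single 0 1 = fun i => kry s r i 2 := kry_pow s r 2
    rw [secP_eq]
    simp only [map_add (aeval M), map_mul (aeval M), map_pow (aeval M), aeval_X, aeval_C]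
    simp only [Algebra.algebraMap_eq_smul_one,
      smul_mul_assoc, one_mul, Matrix.add_mulVec, Matrix.smul_mulVec, Matrix.one_mulVec]
    rw [h7, h6, h5, h4, h3, h2, h1, h0]
    exact kry_rel s r
  have eK : aeval M (secP s r) * kry s r = 0 := by
    ext i j
    have : aeval M (secP s r) *ᵥ (fun i => kry s r i j) = 0 := by
      rw [← kry_pow, Matrix.mulVec_mulVec, (Commute.pow_right (show Commute (aeval M (secP s r)) M by
        have := (Commute.all (secP s r) X).map (aeval M)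
        rwa [aeval_X] at this) j.val).eq, ← Matrix.mulVec_mulVec, e0, Matrix.mulVec_zero]
    exact congrFun this i
  rw [← mul_one (aeval M (secP s r)), ← kry_inv hs r, ← mul_assoc, eK, zero_mul]

theorem secP_monic (s r : F) : (secP s r).Monic ∧ (secP s r).natDegree = 7 := by
  rw [secP_eq]
  exact ⟨by monicity!, by compute_degree!⟩

theorem sec_pow_eq_one {s : F} (hs : s ≠ 0) (r : F) (N : ℕ) : secM s r ^ N = 1 ↔ secP s r ∣ X ^ N - 1 := by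
  constructor
  · intro h
    obtain ⟨hm, hd⟩ := secP_monic s r
    set Q := (X ^ N - 1 : F[X]) %ₘ secP s r with hQ
    have hQ0 : aeval (secM s r) Q = 0 := by
      have := congrArg (aeval (secM s r)) (modByMonic_add_div (X ^ N - 1 : F[X]) (secP s r))
      rw [map_add, map_mul, aeval_secP hs, zero_mul, add_zero] at this
      rw [hQ, this]
      simp [h]
    have hdeg : Q.natDegree < 7 := by
      rw [hQ, ← hd]
      exact natDegree_modByMonic_lt _ hm (fun e => by rw [e, natDegree_one] at hd; omega)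
    rw [← modByMonic_eq_zero_iff_dvd hm, ← hQ]
    have hc : kry s r *ᵥ (fun j : Fin 7 => Q.coeff j) = 0 := by
      have := congrArg (fun A : Mat F => A *ᵥ Pi.single 0 1) hQ0
      simp only [Matrix.zero_mulVec] at this
      rw [aeval_eq_sum_range' hdeg, Matrix.sum_mulVec, Finset.sum_range] at this
      simp only [Matrix.smul_mulVec, kry_pow] at this
      rw [← this]
      funext i
      simp [Matrix.mulVec, dotProduct, Finset.sum_apply, mul_comm]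
    have hz : (fun j : Fin 7 => Q.coeff j) = 0 := by
      rw [← Matrix.one_mulVec (fun j : Fin 7 => Q.coeff j), ← mul_eq_one_comm.1 (kry_inv hs r),
        ← Matrix.mulVec_mulVec, hc, Matrix.mulVec_zero]
    ext n
    by_cases hn : n < 7
    · exact congrFun hz ⟨n, hn⟩
    · exact coeff_eq_zero_of_natDegree_lt (by omega)
  · rintro ⟨c, hc⟩
    have := congrArg (aeval (secM s r)) hc
    rw [map_mul, aeval_secP hs, zero_mul] at this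
    simp at this
    exact sub_eq_zero.1 this

end Cfsg.Agent.G2Odd
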