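/-
The spectrum of G₂(q), q odd.
-/
import Cfsg.Agent.Lib.G2Odd.Orders
import Cfsg.Agent.Lib.G2Odd.Section
import Cfsg.Agent.S4279

set_option autoImplicit false
set_option linter.unusedSectionVars false
set_option linter.unusedSimpArgs false
set_option linter.style.longLine false
set_option maxHeartbeats 1000000

namespace Cfsg.Agent.G2Odd

open Polynomial
open scoped Matrix

variable {F : Type*} [Field F] {K : Type*} [Field K]

theorem Yn_map (f : F →+* K) (r : ℕ) (t : F) : (Yn r t).map f = Yn r (f t) := by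
  unfold Yn
  split
  all_goals
    ext i j
    fin_cases i <;> fin_cases j <;> simp [map_ofNat]

theorem lift_elem (f : F →+* K) (RF : Rep7 F) (RK : Rep7 K) (g : ↥(Cfsg.Lie.chevG2.group F)) :
    ∃ g' : ↥(Cfsg.Lie.chevG2.group K), RK.M g' = (RF.M g).map f := by
  obtain ⟨g, hg⟩ := g
  have key : ∀ x : GL Cfsg.Lie.chevG2.Idx F, x ∈ Subgroup.closure
      {y : GL Cfsg.Lie.chevG2.Idx F | ∃ r, r < 12 ∧ ∃ t : F, y = Cfsg.Agent.Chev.G2.ok.xG r t} →
      ∀ hx : x ∈ Cfsg.Lie.chevG2.group F, ∃ g' : ↥(Cfsg.Lie.chevG2.group K), RK.M g' = (RF.M ⟨x, hx⟩).map f := by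
    intro x hx
    induction hx using Subgroup.closure_induction'' with
    | mem y hy =>
      intro hy'
      obtain ⟨r, hr, t, rfl⟩ := hy
      exact ⟨xe r (f t), by rw [M_xe RK hr, show RF.M ⟨_, hy'⟩ = Yn r t from M_xe RF hr t, Yn_map]⟩
    | inv_mem y hy =>
      intro hy'
      obtain ⟨r, hr, t, rfl⟩ := hy
      have e : (⟨_, hy'⟩ : ↥(Cfsg.Lie.chevG2.group F)) = xe r (-t) := Subtype.ext (by
        show (Cfsg.Agent.Chev.G2.ok.xG r t)⁻¹ = _
        rw [Cfsg.Agent.Chev.G2.ok.xG_inv]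
        rfl)
      exact ⟨xe r (f (-t)), by rw [M_xe RK hr, e, M_xe RF hr, Yn_map]⟩
    | one =>
      intro h1
      refine ⟨1, ?_⟩
      rw [show (⟨1, h1⟩ : ↥(Cfsg.Lie.chevG2.group F)) = 1 from rfl, map_one, map_one]
      exact (Matrix.map_one f (map_zero f) (map_one f)).symm
    | mul a b ha hb iha ihb =>
      intro hab
      have hle : Subgroup.closure {y : GL Cfsg.Lie.chevG2.Idx F | ∃ r, r < 12 ∧ ∃ t : F,
          y = Cfsg.Agent.Chev.G2.ok.xG r t} ≤ Cfsg.Lie.chevG2.group F :=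
        (Subgroup.closure_le _).2 (by rintro y ⟨r, -, t, rfl⟩; exact Cfsg.Agent.Chev.G2.ok.mem_group_of_xG r t)
      obtain ⟨a', ea⟩ := iha (hle ha)
      obtain ⟨b', eb⟩ := ihb (hle hb)
      refine ⟨a' * b', ?_⟩
      rw [map_mul, ea, eb, show (⟨a * b, hab⟩ : ↥(Cfsg.Lie.chevG2.group F)) = ⟨a, hle ha⟩ * ⟨b, hle hb⟩ from rfl,
        map_mul, Matrix.map_mul]
  refine key g ?_ hg
  refine (show Cfsg.Lie.chevG2.group F ≤ _ from ?_) hg
  rw [Cfsg.Lie.ChevalleyDatum.group, Subgroup.closure_le]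
  rintro y ⟨r, t, hy⟩
  refine Subgroup.subset_closure ⟨r.val, r.isLt, t, Units.ext ?_⟩
  rw [Cfsg.Agent.Chev.G2.ok.coe_xG, hy, Cfsg.Lie.ChevalleyDatum.x, dif_pos r.isLt]

theorem form_entry (V : Mat K) (i j : Fin 7) : (Vᵀ * (J : Mat K) * V) i j = ∑ k, V k i * ((J : Mat K) k k.rev * V k.rev j) := by
  simp [J, cZ_apply, jZ, Matrix.mul_apply, Fin.sum_univ_seven]
  ring

theorem J_rev (i : Fin 7) : (J : Mat K) i.rev i = J i i.rev := by
  fin_cases i <;> simp [J, cZ_apply, jZ]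

theorem J_rev_ne (h2 : (2 : K) ≠ 0) (i : Fin 7) : (J : Mat K) i i.rev ≠ 0 := by
  fin_cases i <;> simp [J, cZ_apply, jZ, h2]

theorem J_diag (i : Fin 7) (h : i ≠ i.rev) : (J : Mat K) i i = 0 := by
  revert h
  fin_cases i <;> simp [J, cZ_apply, jZ]

/-- Equal diagonal entries only at opposite places force semisimplicity inside the orthogonal group. -/
theorem regular_pow {A V : Mat K} (h2 : (2 : K) ≠ 0) (hA : ∀ i j, j < i → A i j = 0)
    (hV : ∀ i j, j < i → V i j = 0) (hV1 : ∀ i, V i i = 1) (hc : A * V = V * A)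
    (hform : Vᵀ * J * V = J) (hd : ∀ i j, i < j → A i i = A j j → j = i.rev) : V = 1 := by
  suffices key : ∀ n : ℕ, ∀ i j : Fin 7, i < j → j.val - i.val = n → V i j = 0 by
    ext i j
    rcases lt_trichotomy i j with h | h | h
    · rw [key _ i j h rfl, Matrix.one_apply_ne h.ne]
    · rw [h, hV1, Matrix.one_apply_eq]
    · rw [hV i j h, Matrix.one_apply_ne (Ne.symm h.ne)]
  intro n
  induction n using Nat.strong_induction_on with
  | _ n ih =>
    intro i j hij hn
    have short : ∀ k l : Fin 7, k < l → l.val - k.val < n → V k l = 0 := fun k l hkl hlt => ih _ hlt k l hkl rfl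
    by_cases hdij : A i i = A j j
    · obtain rfl : j = i.rev := hd i j hij hdij
      have h := congrFun (congrFun hform i.rev) i.rev
      rw [form_entry, J_diag _ (by rw [Fin.rev_rev]; exact hij.ne')] at h
      rw [Finset.sum_eq_add i i.rev hij.ne ?_ (by simp) (by simp)] at h
      · simp only [Fin.rev_rev, hV1, J_rev] at h
        have h' : 2 * (J : Mat K) i i.rev * V i i.rev = 0 := by linear_combination h
        exact (mul_eq_zero.1 h').resolve_left (mul_ne_zero h2 (J_rev_ne h2 i))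
      · rintro k - ⟨hk1, hk2⟩
        have hi : i.val < i.rev.val := hij
        rcases lt_trichotomy k i with hk | hk | hk
        · have : i.rev < k.rev := Fin.rev_lt_rev.2 hk
          rw [hV _ _ this, mul_zero, mul_zero]
        · exact absurd hk hk1
        · rcases lt_trichotomy k i.rev with hk' | hk' | hk'
          · have h1 : i.val < k.val := hk
            have h3 : k.val < i.rev.val := hk'
            rw [short k i.rev hk' (by omega), zero_mul]
          · exact absurd hk' hk2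
          · rw [hV _ _ hk', zero_mul]
    · have h := congrFun (congrFun hc i) j
      rw [Matrix.mul_apply, Matrix.mul_apply] at h
      rw [Finset.sum_eq_add i j hij.ne ?_ (by simp) (by simp),
        Finset.sum_eq_add i j hij.ne ?_ (by simp) (by simp), hV1, hV1] at h
      · have h' : (A i i - A j j) * V i j = 0 := by linear_combination h
        exact (mul_eq_zero.1 h').resolve_left (sub_ne_zero.2 hdij)
      all_goals
        rintro k - ⟨hk1, hk2⟩
        rcases lt_or_gt_of_ne hk1 with hk | hk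
        · first | rw [hA i k hk, zero_mul] | rw [hV i k hk, zero_mul]
        · rcases lt_or_gt_of_ne hk2 with hk' | hk'
          · have h1 : i.val < k.val := hk
            have h3 : k.val < j.val := hk'
            first | rw [short k j hk' (by omega), mul_zero] | rw [short i k hk (by omega), zero_mul]
          · first | rw [hV k j hk', mul_zero] | rw [hA k j hk', mul_zero]

theorem dg_inj {x y z : K} (hxyz : x * y * z = 1) (hr : Regular x y z) :
    ∀ i j : Fin 7, i < j → dg x y z i = dg x y z j → j = i.rev := by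
  obtain ⟨hx, hy, hz, exy, nxy, exz, nxz, eyz, nyz⟩ := hr
  have s1 : x⁻¹ ≠ y := fun e => nxy (by rw [← e, inv_inv])
  have s2 : x⁻¹ ≠ z := fun e => nxz (by rw [← e, inv_inv])
  have s3 : y⁻¹ ≠ z := fun e => nyz (by rw [← e, inv_inv])
  intro i j hij
  fin_cases i <;> fin_cases j <;> revert hij <;>
    simp [dg, Fin.rev, hx, hy, hz, Ne.symm hx, Ne.symm hy, Ne.symm hz, exy, Ne.symm exy, nxy, Ne.symm nxy, exz,
      Ne.symm exz, nxz, Ne.symm nxz, eyz, Ne.symm eyz, nyz, Ne.symm nyz, s1, Ne.symm s1, s2, Ne.symm s2, s3,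
      Ne.symm s3, inv_eq_one, eq_comm (a := (1 : K))]

theorem tri_pow {A : Mat K} (hA : ∀ i j, j < i → A i j = 0) (N : ℕ) :
    (∀ i j, j < i → (A ^ N) i j = 0) ∧ ∀ i, (A ^ N) i i = A i i ^ N := by
  induction N with
  | zero => exact ⟨fun i j h => by rw [pow_zero]; exact Matrix.one_apply_ne (Ne.symm h.ne), fun i => by simp⟩
  | succ N ih =>
    exact ⟨by rw [pow_succ]; exact tri_mul ih.1 hA, fun i => by rw [pow_succ, tri_mul_diag ih.1 hA, ih.2, pow_succ]⟩

theorem charpoly_fixed [Fintype F] (f : F →+* K) (φ : K →+* K) (hφ : ∀ t, φ t = t ^ Fintype.card F)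
    (A : Mat F) : (A.map f).charpoly.map φ = (A.map f).charpoly := by
  rw [Matrix.charpoly_map, Polynomial.map_map]
  congr 1
  ext t
  rw [RingHom.comp_apply, hφ, ← map_pow, FiniteField.pow_card]

theorem pow_eq_one_of_dvd (R : Rep7 K) (g : ↥(Cfsg.Lie.chevG2.group K)) {P : K[X]}
    (hp : (R.M g).charpoly = P) {N : ℕ} (hd : P ∣ X ^ N - 1) : R.M g ^ N = 1 := by
  obtain ⟨c, hc⟩ := hd
  have := congrArg (aeval (R.M g)) hc
  rw [map_mul, ← hp, Matrix.aeval_self_charpoly, zero_mul] at this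
  simp at this
  exact sub_eq_zero.1 this

theorem sl_two_six {F : Type*} [Field F] [CharP F 3] (M : Matrix.SpecialLinearGroup (Fin 2) F) (h : M ^ 18 = 1) :
    M ^ 6 = 1 := by
  haveI : Fact (Nat.Prime 3) := ⟨Nat.prime_three⟩
  haveI : CharP (Matrix (Fin 2) (Fin 2) F) 3 := inferInstance
  set A : Matrix (Fin 2) (Fin 2) F := (M : Matrix (Fin 2) (Fin 2) F) with hA
  have h18 : A ^ 18 = 1 := by
    rw [hA, ← Matrix.SpecialLinearGroup.coe_pow, h, Matrix.SpecialLinearGroup.coe_one]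
  set N := A ^ 2 - 1 with hN
  have h9 : N ^ 3 ^ 2 = 0 := by
    rw [hN, sub_pow_char_pow_of_commute _ _ (Commute.one_right _), one_pow, ← pow_mul]
    norm_num [h18]
  have hdet : N.det = 0 := by
    have := congrArg Matrix.det h9
    rw [Matrix.det_pow, Matrix.det_zero] at this
    exact (pow_eq_zero_iff (by norm_num)).1 this
  have hsq : N * N = N.trace • N := by
    rw [Matrix.det_fin_two] at hdet
    ext i j
    fin_cases i <;> fin_cases j <;> simp [Matrix.mul_apply, Fin.sum_univ_two, Matrix.trace] <;> grind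
  have hN3 : N ^ 3 = 0 := by
    have hpow : ∀ k, N ^ (k + 1) = N.trace ^ k • N := by
      intro k
      induction k with
      | zero => simp
      | succ k ih => rw [pow_succ, ih, smul_mul_assoc, hsq, smul_smul, pow_succ]
    rw [show 3 ^ 2 = 8 + 1 by norm_num, hpow, smul_eq_zero] at h9
    rcases h9 with e | e
    · rw [hpow 2, (pow_eq_zero_iff (by norm_num)).1 e]
      simp
    · rw [e]; simp
  have h6 : A ^ 6 = 1 := by
    have e : N ^ 3 ^ 1 = (A ^ 2) ^ 3 ^ 1 - 1 := by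
      rw [hN, sub_pow_char_pow_of_commute _ _ (Commute.one_right _), one_pow]
    rw [pow_one, hN3, ← pow_mul] at e
    exact sub_eq_zero.1 e.symm
  apply Subtype.ext
  rw [Matrix.SpecialLinearGroup.coe_pow, Matrix.SpecialLinearGroup.coe_one]
  exact h6

theorem no_eighteen {F : Type*} [Field F] [Fintype F] [CharP F 3] (hF : Odd (Fintype.card F))
    (g : ↥(Cfsg.Lie.chevG2.group F)) : orderOf g ≠ 18 := by
  intro hg
  have ht : orderOf (g ^ 9) = 2 := by rw [orderOf_pow' _ (by norm_num), hg]; norm_num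
  obtain ⟨-, L₁, L₂, ⟨e₁⟩, ⟨e₂⟩, hcomm, hinf, hle, hidx⟩ := Cfsg.Agent.S4279.result hF (g ^ 9) ht
  set C := Subgroup.centralizer ({g ^ 9} : Set ↥(Cfsg.Lie.chevG2.group F))
  have hgC : g ∈ C := Subgroup.mem_centralizer_singleton_iff.2 ((Commute.self_pow g 9).eq)
  have hu : g * g ∈ L₁ ⊔ L₂ := by
    have := Subgroup.mul_self_mem_of_index_two (H := (L₁ ⊔ L₂).subgroupOf C) hidx ⟨g, hgC⟩
    rwa [Subgroup.mem_subgroupOf] at this
  let ψ := MonoidHom.noncommCoprod L₁.subtype L₂.subtype fun a b => hcomm a a.2 b b.2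
  have hsup : L₁ ⊔ L₂ ≤ ψ.range := sup_le
    (fun a ha => ⟨(⟨a, ha⟩, 1), show a * 1 = a from mul_one a⟩) (fun b hb => ⟨(1, ⟨b, hb⟩), show 1 * b = b from one_mul b⟩)
  obtain ⟨⟨a, b⟩, hab⟩ := hsup hu
  have hab' : (a : ↥(Cfsg.Lie.chevG2.group F)) * b = g * g := hab
  have hcab : Commute (a : ↥(Cfsg.Lie.chevG2.group F)) b := hcomm _ a.2 _ b.2
  have h9 : (a : ↥(Cfsg.Lie.chevG2.group F)) ^ 9 * (b : ↥(Cfsg.Lie.chevG2.group F)) ^ 9 = 1 := by
    rw [← hcab.mul_pow, hab', ← pow_two, ← pow_mul]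
    exact orderOf_dvd_iff_pow_eq_one.1 (by rw [hg])
  have hz : (a : ↥(Cfsg.Lie.chevG2.group F)) ^ 9 ∈ L₁ ⊓ L₂ :=
    Subgroup.mem_inf.2 ⟨pow_mem a.2 9, by rw [eq_inv_of_mul_eq_one_left h9]; exact inv_mem (pow_mem b.2 9)⟩
  have ha18 : (a : ↥(Cfsg.Lie.chevG2.group F)) ^ 18 = 1 := by
    rw [hinf] at hz
    have h' := orderOf_dvd_of_mem_zpowers hz
    rw [ht] at h'
    rw [show 18 = 9 * 2 by norm_num, pow_mul]
    exact orderOf_dvd_iff_pow_eq_one.1 h'
  have hb18 : (b : ↥(Cfsg.Lie.chevG2.group F)) ^ 18 = 1 := by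
    have := congrArg (fun u : ↥(Cfsg.Lie.chevG2.group F) => u ^ 2) h9
    simp only [one_pow, ((hcab.pow_pow 9 9)).mul_pow, ← pow_mul] at this
    rwa [ha18, one_mul] at this
  have six : ∀ {L : Subgroup ↥(Cfsg.Lie.chevG2.group F)} (e : L ≃* Matrix.SpecialLinearGroup (Fin 2) F) (l : L),
      (l : ↥(Cfsg.Lie.chevG2.group F)) ^ 18 = 1 → (l : ↥(Cfsg.Lie.chevG2.group F)) ^ 6 = 1 := by
    intro L e l hl
    have h1 : l ^ 18 = 1 := Subtype.ext hl
    have h2 := sl_two_six (e l) (by rw [← map_pow, h1, map_one])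
    rw [← map_pow, MulEquiv.map_eq_one_iff] at h2
    exact congrArg Subtype.val h2
  have h12 : g ^ 12 = 1 := by
    rw [show 12 = 2 * 6 by norm_num, pow_mul, pow_two, ← hab', hcab.mul_pow, six e₁ a ha18, six e₂ b hb18, one_mul]
  have := orderOf_dvd_of_pow_eq_one h12
  rw [hg] at this
  norm_num at this

theorem upper [Fintype F] (p a : ℕ) (hp : p.Prime) (hp2 : p ≠ 2) (ha : 1 ≤ a) (hF : Fintype.card F = p ^ a)
    (hq5 : 5 ≤ Fintype.card F) (g : ↥(Cfsg.Lie.chevG2.group F)) :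
    ∃ N, Bound (p ^ a) p N ∧ orderOf g ∣ N := by
  classical
  haveI : Fact p.Prime := ⟨hp⟩
  haveI : CharP F p := charP_of_card_eq_prime_pow hF
  haveI : CharP (AlgebraicClosure F) p := charP_of_injective_algebraMap (algebraMap F (AlgebraicClosure F)).injective p
  have h2F : (2 : F) ≠ 0 := Ring.two_ne_zero (by rwa [ringChar.eq F p])
  have h2L : (2 : AlgebraicClosure F) ≠ 0 := Ring.two_ne_zero (by rwa [ringChar.eq (AlgebraicClosure F) p])
  have hodd : Odd (p ^ a) := (hp.odd_of_ne_two hp2).pow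
  obtain ⟨RF⟩ := exists_Rep7 F h2F
  obtain ⟨RL⟩ := exists_Rep7 (AlgebraicClosure F) h2L
  obtain ⟨g', hg'⟩ := lift_elem (algebraMap F (AlgebraicClosure F)) RF RL g
  obtain ⟨C, hC⟩ := exists_good RL g'
  obtain ⟨x, y, z, hxyz, hdiag, hcp⟩ := chi_charpoly hC
  have hcp' : (RL.M g').charpoly = chi7 x y z := by
    have hCC' : RL.M C⁻¹ * RL.M C = 1 := by rw [← map_mul, inv_mul_cancel, map_one]
    rw [← hcp, map_mul, map_mul, Matrix.charpoly_mul_comm, ← mul_assoc, hCC', one_mul]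
  have hφ : ∀ t : AlgebraicClosure F, iterateFrobenius (AlgebraicClosure F) p a t = t ^ p ^ a :=
    fun t => iterateFrobenius_def (R := AlgebraicClosure F) p a t
  have hfix := charpoly_fixed (algebraMap F (AlgebraicClosure F)) _ (by rw [hF]; exact hφ) (RF.M g)
  rw [← hg', hcp'] at hfix
  have back : ∀ N, RL.M g' ^ N = 1 → g ^ N = 1 := by
    intro N h
    refine RF.M_inj (Matrix.map_injective (algebraMap F (AlgebraicClosure F)).injective ?_)
    show (algebraMap F (AlgebraicClosure F)).mapMatrix (RF.M (g ^ N)) = (algebraMap F (AlgebraicClosure F)).mapMatrix (RF.M 1)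
    rw [map_pow, map_pow, map_one, map_one]
    show (RF.M g).map (algebraMap F (AlgebraicClosure F)) ^ N = 1
    rw [← hg', h]
  rw [hF] at hq5
  rcases bound_chi hq5 hodd hp2 _ hφ hxyz hfix with ⟨N, hN, hd⟩ | ⟨hp3, hd⟩ | ⟨hr, N, hN, hx, hy, hz⟩
  · exact ⟨N, hN, orderOf_dvd_of_pow_eq_one (back N (pow_eq_one_of_dvd RL g' hcp' hd))⟩
  · subst hp3
    have h18 := orderOf_dvd_of_pow_eq_one (back 18 (pow_eq_one_of_dvd RL g' hcp' hd))
    have hne := no_eighteen (by rw [hF]; exact hodd) g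
    have hmem : orderOf g ∈ Nat.divisors 18 := Nat.mem_divisors.2 ⟨h18, by norm_num⟩
    rw [show Nat.divisors 18 = {1, 2, 3, 6, 9, 18} by decide] at hmem
    simp only [Finset.mem_insert, Finset.mem_singleton] at hmem
    have h2 : 2 ∣ 3 ^ a + 1 := even_iff_two_dvd.1 hodd.add_one
    have h6 : (6 : ℕ) ∣ 3 * (3 ^ a + 1) := by
      rw [show (6 : ℕ) = 3 * 2 by norm_num]; exact Nat.mul_dvd_mul_left 3 h2
    rcases hmem with e | e | e | e | e | e
    · exact ⟨_, Or.inl rfl, by rw [e]; exact one_dvd _⟩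
    · exact ⟨_, Or.inl rfl, by rw [e]; exact (show 2 ∣ 6 by norm_num).trans h6⟩
    · exact ⟨_, Or.inl rfl, by rw [e]; exact Dvd.intro _ rfl⟩
    · exact ⟨_, Or.inl rfl, by rw [e]; exact h6⟩
    · exact ⟨3 * 3, Or.inr (Or.inr (Or.inr (Or.inr (Or.inr ⟨Or.inl rfl, rfl⟩)))), by rw [e]⟩
    · exact absurd e hne
  · refine ⟨N, hN, orderOf_dvd_of_pow_eq_one (back N ?_)⟩
    have hpow : RL.M (C * g' * C⁻¹) ^ N = 1 := by
      obtain ⟨t1, t2⟩ := tri_pow hC.1 N
      refine regular_pow h2L hC.1 t1 (fun i => ?_) ((Commute.self_pow _ N).eq)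
        (by rw [← map_pow]; exact M_form RL _) (fun i j hij e => ?_)
      · rw [t2, hdiag]
        fin_cases i <;> simp [dg, hx, hy, hz]
      · rw [hdiag, hdiag] at e
        exact dg_inj hxyz hr i j hij e
    rw [← map_pow, conj_pow] at hpow
    have h1 : C * g' ^ N * C⁻¹ = 1 := RL.M_inj (hpow.trans (map_one RL.M).symm)
    rw [conj_eq_one_iff] at h1
    rw [← map_pow, h1, map_one]

theorem chi_secQ {x y z : K} (h : x * y * z = 1) :
    chi7 x y z = secP (-(x + x⁻¹ + (y + y⁻¹) + (z + z⁻¹)) - 2)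
      (2 * (-(x + x⁻¹ + (y + y⁻¹) + (z + z⁻¹)) - 2) - 1 -
        ((x + x⁻¹) * (y + y⁻¹) + (x + x⁻¹) * (z + z⁻¹) + (y + y⁻¹) * (z + z⁻¹))) ∧
    (x + x⁻¹ + (y + y⁻¹) + (z + z⁻¹) + 2) ^ 2 = (x + x⁻¹ + 2) * (y + y⁻¹ + 2) * (z + z⁻¹ + 2) := by
  have hx : x ≠ 0 := left_ne_zero_of_mul (left_ne_zero_of_mul_eq_one h)
  have hy : y ≠ 0 := right_ne_zero_of_mul (left_ne_zero_of_mul_eq_one h)
  have hz : z ≠ 0 := right_ne_zero_of_mul_eq_one h
  have hz' : z = x⁻¹ * y⁻¹ := by field_simp; linear_combination h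
  have e3 : (x + x⁻¹) * (y + y⁻¹) * (z + z⁻¹) = (x + x⁻¹ + (y + y⁻¹) + (z + z⁻¹)) ^ 2 -
      2 * ((x + x⁻¹) * (y + y⁻¹) + (x + x⁻¹) * (z + z⁻¹) + (y + y⁻¹) * (z + z⁻¹)) - 4 := by
    subst hz'
    field_simp
    ring
  have quad : ∀ t : K, t ≠ 0 → (X - C t) * (X - C t⁻¹) = X ^ 2 - C (t + t⁻¹) * X + 1 := by
    intro t ht
    have e : (X - C t) * (X - C t⁻¹) = X ^ 2 - (C t + C t⁻¹) * X + C t * C t⁻¹ := by ring
    rw [e, ← C_mul, mul_inv_cancel₀ ht, C_1, C_add]
  refine ⟨?_, by linear_combination -e3⟩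
  have e3' := congrArg (C : K →+* K[X]) e3
  rw [chi7, chi_eq, quad x hx, quad y hy, quad z hz, secP, secQ]
  generalize x + x⁻¹ = a at e3' ⊢
  generalize y + y⁻¹ = b at e3' ⊢
  generalize z + z⁻¹ = c at e3' ⊢
  simp only [C_add, C_sub, C_neg, C_mul, C_pow, C_1, C_ofNat] at e3' ⊢
  linear_combination (-(X - 1) * X ^ 3) * e3'

theorem mem_range_of_fixed [Fintype F] (f : F →+* K) {t : K} (h : t ^ Fintype.card F = t) : ∃ s, f s = t := by
  classical
  by_contra hne
  push Not at hne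
  have hcard : 1 < Fintype.card F := Fintype.one_lt_card
  have hnz : (X ^ Fintype.card F - X : K[X]) ≠ 0 := FiniteField.X_pow_card_sub_X_ne_zero K hcard
  have hsub : insert t (Finset.univ.image f) ⊆ (X ^ Fintype.card F - X : K[X]).roots.toFinset := by
    intro u hu
    rw [Multiset.mem_toFinset, mem_roots hnz]
    simp only [IsRoot.def, eval_sub, eval_pow, eval_X, sub_eq_zero]
    rcases Finset.mem_insert.1 hu with rfl | hu
    · exact h
    · obtain ⟨s, -, rfl⟩ := Finset.mem_image.1 hu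
      rw [← map_pow, FiniteField.pow_card]
  have h1 := (Finset.card_le_card hsub).trans ((Multiset.toFinset_card_le _).trans (card_roots' _))
  rw [Finset.card_insert_of_notMem (by simp [hne]), Finset.card_image_of_injective _ f.injective,
    Finset.card_univ, FiniteField.X_pow_card_sub_X_natDegree_eq K hcard] at h1
  omega

/-- An element with prescribed eigenvalues, none equal to minus one. -/
theorem realize [Fintype F] (p a : ℕ) (hF : Fintype.card F = p ^ a) (h2 : (2 : F) ≠ 0) (f : F →+* K) (φ : K →+* K)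
    (hφ : ∀ t, φ t = t ^ p ^ a) {x y z : K} (h : x * y * z = 1) (hm : x ≠ -1 ∧ y ≠ -1 ∧ z ≠ -1)
    (hfix : chi (φ x) (φ y) (φ z) = chi x y z) :
    ∃ g : ↥(Cfsg.Lie.chevG2.group F), ∀ N, g ^ N = 1 ↔ chi7 x y z ∣ X ^ N - 1 := by
  obtain ⟨R⟩ := exists_Rep7 F h2
  obtain ⟨h1, hsq⟩ := chi_secQ h
  set S := -(x + x⁻¹ + (y + y⁻¹) + (z + z⁻¹)) - 2 with hS
  set T := 2 * S - 1 - ((x + x⁻¹) * (y + y⁻¹) + (x + x⁻¹) * (z + z⁻¹) + (y + y⁻¹) * (z + z⁻¹)) with hT
  have hS0 : S ≠ 0 := by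
    intro e
    have hne : ∀ t : K, t ≠ 0 → t ≠ -1 → t + t⁻¹ + 2 ≠ 0 := by
      intro t ht htm e'
      apply htm
      have : (t + 1) ^ 2 = 0 := by
        field_simp at e'
        linear_combination e'
      exact eq_neg_of_add_eq_zero_left ((pow_eq_zero_iff two_ne_zero).1 this)
    have hx : x ≠ 0 := left_ne_zero_of_mul (left_ne_zero_of_mul_eq_one h)
    have hy : y ≠ 0 := right_ne_zero_of_mul (left_ne_zero_of_mul_eq_one h)
    have hz : z ≠ 0 := right_ne_zero_of_mul_eq_one h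
    refine mul_ne_zero (mul_ne_zero (hne x hx hm.1) (hne y hy hm.2.1)) (hne z hz hm.2.2) ?_
    rw [← hsq, show x + x⁻¹ + (y + y⁻¹) + (z + z⁻¹) + 2 = -S by rw [hS]; ring, e]
    ring
  have hmapφ : (secP S T).map φ = secP S T := by
    rw [← h1]
    simp only [chi7, chi_eq, Polynomial.map_mul, Polynomial.map_sub, map_X, map_C, map_one, Polynomial.map_one, map_inv₀] at *
    rw [hfix]
  have hc : ∀ u v : K, (secP u v).coeff 6 = 1 + u ∧ (secP u v).coeff 5 = u - v := fun u v => by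
    rw [secP_eq]
    constructor <;> simp [coeff_X_pow, coeff_one, coeff_X, coeff_C_mul, coeff_C, -map_pow, -map_add, -map_sub]
  have e6 := congrArg (fun q : K[X] => q.coeff 6) hmapφ
  have e5 := congrArg (fun q : K[X] => q.coeff 5) hmapφ
  simp only [coeff_map, hc, map_add, map_sub, map_one, add_right_inj] at e6 e5
  rw [e6, sub_right_inj] at e5
  obtain ⟨s, hs⟩ := mem_range_of_fixed f (t := S) (by rw [hF, ← hφ]; exact e6)
  obtain ⟨r, hr⟩ := mem_range_of_fixed f (t := T) (by rw [hF, ← hφ]; exact e5)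
  have hs0 : s ≠ 0 := fun e => hS0 (by rw [← hs, e, map_zero])
  obtain ⟨g, hg⟩ := sec_eq R s r
  refine ⟨g, fun N => ?_⟩
  have hmap : (secP s r).map f = chi7 x y z := by
    rw [h1, ← hs, ← hr, secP_eq, secP_eq]
    simp [Polynomial.map_add, Polynomial.map_mul]
  rw [← hmap, show (X ^ N - 1 : K[X]) = (X ^ N - 1 : F[X]).map f by simp, Polynomial.map_dvd_map' f,
    ← sec_pow_eq_one hs0, ← hg, ← map_pow]
  exact ⟨fun e => by rw [e, map_one], fun e => R.M_inj (e.trans (map_one R.M).symm)⟩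

end Cfsg.Agent.G2Odd
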