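/-
Witnesses for the maximal element orders of G₂(q), q odd.
-/
import Cfsg.Agent.Lib.G2Odd.Spectrum

set_option autoImplicit false
set_option linter.unusedSectionVars false
set_option linter.unusedSimpArgs false
set_option maxHeartbeats 1000000

namespace Cfsg.Agent.G2Odd

open Polynomial

variable {K : Type*} [Field K]

theorem root_of_dvd {x y z : K} {N : ℕ} (h : chi7 x y z ∣ X ^ N - 1) : x ^ N = 1 ∧ y ^ N = 1 := by
  have key : ∀ t : K, (X - C t) ∣ chi x y z → t ^ N = 1 := by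
    intro t ht
    simpa [dvd_iff_isRoot, sub_eq_zero] using (ht.trans (dvd_mul_left _ _)).trans h
  constructor <;> refine key _ (Multiset.dvd_prod (Multiset.mem_map_of_mem _ ?_)) <;> simp [six]

theorem not_sq_dvd {n : ℕ} (hn : (n : K) ≠ 0) (x : K) : ¬ (X - C x) ^ 2 ∣ X ^ n - 1 := by
  rintro ⟨c, hc⟩
  have h1 := congrArg (fun P : K[X] => P.eval x) hc
  have h2 := congrArg (fun P : K[X] => (derivative P).eval x) hc
  simp [derivative_pow, derivative_mul, sub_eq_zero] at h1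
  simp [derivative_pow, derivative_mul, hn] at h2
  have n0 : n ≠ 0 := fun e => hn (by rw [e, Nat.cast_zero])
  have x0 : x ≠ 0 := fun e => by rw [e, zero_pow n0] at h1; exact zero_ne_one h1
  exact x0 h2.1

/-- The standing data. -/
structure Setup (F K : Type*) [Field F] [Fintype F] [Field K] where
  p : ℕ
  a : ℕ
  hp : p.Prime
  hp2 : p ≠ 2
  ha : 1 ≤ a
  hF : Fintype.card F = p ^ a
  hq5 : 5 ≤ p ^ a
  two : (2 : F) ≠ 0
  f : F →+* K
  φ : K →+* K
  hφ : ∀ t, φ t = t ^ p ^ a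

variable {F : Type*} [Field F] [Fintype F] [IsAlgClosed K] (S : Setup F K) [CharP K S.p]

/-- The order of the field. -/
def Setup.q : ℕ := S.p ^ S.a

theorem q_odd : Odd S.q := (S.hp.odd_of_ne_two S.hp2).pow

theorem q_dvd : S.p ∣ S.q := dvd_pow_self _ (by have := S.ha; omega)

include S

theorem cast_ne {n : ℕ} (hn : n ∣ S.q * S.q * S.q * S.q * S.q * S.q - 1 ∨ ¬ S.p ∣ n) : (n : K) ≠ 0 := by
  rw [Ne, CharP.cast_eq_zero_iff K S.p]
  intro h
  rcases hn with hn | hn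
  · have hd : S.p ∣ S.q * S.q * S.q * S.q * S.q * S.q := dvd_mul_of_dvd_right (q_dvd S) _
    have h1 : 1 ≤ S.q * S.q * S.q * S.q * S.q * S.q := by
      have : 5 ≤ S.q := S.hq5
      exact Nat.one_le_iff_ne_zero.2 (by positivity)
    have h2 := (Nat.dvd_add_right (h.trans hn)).1 (by rwa [Nat.sub_add_cancel h1])
    exact S.hp.ne_one (Nat.dvd_one.1 h2)
  · exact hn h

theorem not_dvd_of {n m : ℕ} (h : n + 1 = m ∨ n = m + 1) (hm : S.p ∣ m) : ¬ S.p ∣ n := by
  intro hn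
  refine S.hp.ne_one (Nat.dvd_one.1 ?_)
  rcases h with h | h <;> subst h
  · exact (Nat.dvd_add_right hn).1 hm
  · exact (Nat.dvd_add_right hm).1 hn

theorem exists_prim {n : ℕ} (hn : ¬ S.p ∣ n) : ∃ x : K, IsPrimitiveRoot x n := by
  haveI : NeZero (n : K) := ⟨cast_ne S (Or.inr hn)⟩
  haveI : NeZero n := NeZero.of_neZero_natCast K
  exact HasEnoughRootsOfUnity.exists_primitiveRoot K n

theorem neg_one_ne : (-1 : K) ≠ 1 := by
  intro e
  have h2 : ((2 : ℕ) : K) = 0 := by push_cast; linear_combination -e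
  exact cast_ne S (n := 2) (Or.inr fun h => S.hp2 ((Nat.prime_dvd_prime_iff_eq S.hp Nat.prime_two).1 h)) h2

theorem occurs_square (h35 : S.p = 3 ∨ S.p = 5) :
    ∃ g : ↥(Cfsg.Lie.chevG2.group F), orderOf g = S.p * S.p := by
  haveI : Fact S.p.Prime := ⟨S.hp⟩
  have hne := neg_one_ne S
  obtain ⟨g, hg⟩ := realize S.p S.a S.hF S.two S.f S.φ S.hφ (x := 1) (y := 1) (z := 1) (by simp)
    ⟨hne.symm, hne.symm, hne.symm⟩ (by simp)
  have e : chi7 (1 : K) 1 1 = (X - 1) ^ 7 := by rw [chi7, chi_eq, inv_one, map_one]; ring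
  refine ⟨g, ?_⟩
  rw [show S.p * S.p = S.p ^ (1 + 1) by ring]
  refine orderOf_eq_prime_pow ?_ ?_
  · rw [hg, e, show S.p ^ 1 = S.p ^ 1 * 1 by ring, ← frob_dvd, pow_one, pow_one]
    intro h
    have hne : (X - 1 : K[X]) ≠ 0 := by simpa using X_sub_C_ne_zero (1 : K)
    have := natDegree_le_of_dvd h (pow_ne_zero _ hne)
    rw [natDegree_pow, natDegree_pow, show (X - 1 : K[X]).natDegree = 1 by simpa using natDegree_X_sub_C (1 : K)] at this
    rcases h35 with e | e <;> omega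
  · rw [hg, e, show S.p ^ (1 + 1) = S.p ^ 2 * 1 by ring, ← frob_dvd, pow_one]
    exact pow_dvd_pow _ (by rcases h35 with e | e <;> rw [e] <;> norm_num)

theorem occurs_double {n : ℕ} (hn : ¬ S.p ∣ n) (h3 : 3 ≤ n)
    (hq : ∀ x : K, x ^ n = 1 → x ^ S.p ^ S.a = x ∨ x ^ S.p ^ S.a = x⁻¹) :
    ∃ g : ↥(Cfsg.Lie.chevG2.group F), orderOf g = S.p * n := by
  haveI : Fact S.p.Prime := ⟨S.hp⟩
  obtain ⟨x, hx⟩ := exists_prim S hn
  have hx0 : x ≠ 0 := hx.ne_zero (by omega)
  have hx1 : x ≠ 1 := hx.ne_one (by omega)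
  have hxm : x ≠ -1 := fun e => hx.pow_ne_one_of_pos_of_lt two_ne_zero (by omega) (by rw [e]; ring)
  have hxx : x ≠ x⁻¹ := fun e => (self_inv e hx0).elim hx1 hxm
  have hxim : x⁻¹ ≠ -1 := fun e => hxm (by rw [← inv_inv x, e, inv_neg, inv_one])
  have e : chi7 1 x x⁻¹ = (X - C (1 : K)) ^ 3 * ((X - C x) * (X - C x⁻¹)) ^ 2 := by
    rw [chi7, chi_eq, inv_one, inv_inv]; ring
  have hfix : chi (S.φ 1) (S.φ x) (S.φ x⁻¹) = chi 1 x x⁻¹ := by
    rw [map_one, map_inv₀, S.hφ]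
    rcases hq x hx.pow_eq_one with h | h <;> rw [h]
    simp only [chi_eq, inv_one, inv_inv]; ring
  obtain ⟨g, hg⟩ := realize S.p S.a S.hF S.two S.f S.φ S.hφ (by rw [one_mul, mul_inv_cancel₀ hx0])
    ⟨(neg_one_ne S).symm, hxm, hxim⟩ hfix
  refine ⟨g, ?_⟩
  have hpn : g ^ (S.p * n) = 1 := by
    rw [hg]
    refine cube_dvd S.hp2 n ?_
    have := prod_dvd (n := n) (by omega) ({1, x, x⁻¹} : Multiset K) (by
      simp [hxx, Ne.symm hx1, hx1, inv_eq_one, eq_comm (a := (1 : K))])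
      (by simp [hx.pow_eq_one])
    refine dvd_trans ?_ (pow_dvd_pow_of_dvd this 3)
    rw [e]
    exact ⟨(X - C x) * (X - C x⁻¹), by simp; ring⟩
  have hdvd : n ∣ orderOf g := hx.dvd_of_pow_eq_one _ (root_of_dvd ((hg _).1 (pow_orderOf_eq_one g))).2
  obtain ⟨k, hk⟩ := hdvd
  have hd := orderOf_dvd_of_pow_eq_one hpn
  rw [hk, mul_comm S.p n] at hd
  have hk2 : k ∣ S.p := Nat.dvd_of_mul_dvd_mul_left (by omega) hd
  rcases (Nat.dvd_prime S.hp).1 hk2 with h | h <;> subst h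
  · exfalso
    have h1 := (hg n).1 (orderOf_dvd_iff_pow_eq_one.1 (by rw [hk, mul_one]))
    refine not_sq_dvd (K := K) (cast_ne S (Or.inr hn)) 1 (dvd_trans ?_ h1)
    rw [e]
    exact dvd_mul_of_dvd_left (pow_dvd_pow _ (by norm_num)) _
  · rw [hk, mul_comm]

theorem occurs_single {n : ℕ} (hn : 0 < n) {x : K} (hx : IsPrimitiveRoot x n) {y z : K} (i j : ℕ)
    (hy : y = x ^ i) (hz : z = x ^ j) (hi : i < n) (hj : j < n)
    (hnd : [0, 1, n - 1, i, n - i, j, n - j].Nodup) (hlt : ∀ e ∈ [0, 1, n - 1, i, n - i, j, n - j], e < n)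
    (hprod : x * y * z = 1) (hfix : chi (S.φ x) (S.φ y) (S.φ z) = chi x y z) :
    ∃ g : ↥(Cfsg.Lie.chevG2.group F), orderOf g = n := by
  have hinv : ∀ k, k ≤ n → (x ^ k)⁻¹ = x ^ (n - k) := fun k hk =>
    inv_eq_of_mul_eq_one_right (by rw [← pow_add, Nat.add_sub_cancel' hk, hx.pow_eq_one])
  have e : (1 ::ₘ six x y z) = (([0, 1, n - 1, i, n - i, j, n - j].map fun k => x ^ k : List K) : Multiset K) := by
    simp only [six, List.map_cons, List.map_nil, hy, hz, ← hinv 1 (by omega), ← hinv i hi.le, ← hinv j hj.le,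
      pow_zero, pow_one]
    rfl
  have hnd' : (1 ::ₘ six x y z).Nodup := by
    rw [e, Multiset.coe_nodup]
    exact hnd.map_on fun p hp r hr h => hx.pow_inj (hlt p hp) (hlt r hr) h
  have hne : ∀ t ∈ six x y z, t⁻¹ ∈ six x y z → t ≠ t⁻¹ → t ≠ -1 := fun t _ _ h e => h (by rw [e, inv_neg, inv_one])
  have hm : x ≠ -1 ∧ y ≠ -1 ∧ z ≠ -1 := by
    have h6 := (Multiset.nodup_cons.1 hnd').2
    simp only [six, Multiset.insert_eq_cons, Multiset.nodup_cons, Multiset.mem_cons, Multiset.mem_singleton,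
      Multiset.nodup_singleton, and_true, not_or] at h6
    obtain ⟨⟨h1, -⟩, -, ⟨h2, -⟩, -, h3⟩ := h6
    exact ⟨hne x (by simp [six]) (by simp [six]) h1, hne y (by simp [six]) (by simp [six]) h2,
      hne z (by simp [six]) (by simp [six]) h3⟩
  obtain ⟨g, hg⟩ := realize S.p S.a S.hF S.two S.f S.φ S.hφ hprod hm hfix
  refine ⟨g, Nat.dvd_antisymm (orderOf_dvd_of_pow_eq_one ?_) ?_⟩
  · rw [hg, show chi7 x y z = ((1 ::ₘ six x y z).map fun a => X - C a).prod by
      rw [chi7, chi, Multiset.map_cons, Multiset.prod_cons]]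
    refine prod_dvd hn _ hnd' ?_
    intro t ht
    rw [e, Multiset.mem_coe, List.mem_map] at ht
    obtain ⟨k, -, rfl⟩ := ht
    rw [← pow_mul, mul_comm, pow_mul, hx.pow_eq_one, one_pow]
  · exact hx.dvd_of_pow_eq_one _ (root_of_dvd ((hg _).1 (pow_orderOf_eq_one g))).1

theorem occurs_plus : ∃ g : ↥(Cfsg.Lie.chevG2.group F), orderOf g = S.p * (S.q + 1) := by
  have hq : 5 ≤ S.q := S.hq5
  refine occurs_double S (not_dvd_of S (Or.inr rfl) (q_dvd S)) (by omega) fun x hx => Or.inr ?_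
  exact eq_inv_of_mul_eq_one_left (by rw [← pow_succ]; exact hx)

theorem occurs_minus : ∃ g : ↥(Cfsg.Lie.chevG2.group F), orderOf g = S.p * (S.q - 1) := by
  have hq : 5 ≤ S.q := S.hq5
  refine occurs_double S (not_dvd_of S (m := S.q) (Or.inl (by omega)) (q_dvd S)) (by omega) fun x hx => Or.inl ?_
  show x ^ S.q = x
  conv_lhs => rw [← Nat.sub_add_cancel (show 1 ≤ S.q by omega)]
  rw [pow_succ, hx, one_mul]

theorem occurs_sq : ∃ g : ↥(Cfsg.Lie.chevG2.group F), orderOf g = S.q * S.q - 1 := by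
  have hq : 5 ≤ S.q := S.hq5
  have h4 : 5 * S.q ≤ S.q * S.q := Nat.mul_le_mul_right _ hq
  obtain ⟨x, hx⟩ := exists_prim S (n := S.q * S.q - 1)
    (not_dvd_of S (m := S.q * S.q) (Or.inl (by omega)) ((q_dvd S).mul_right _))
  have hx0 : x ≠ 0 := hx.ne_zero (by omega)
  have hqq : x ^ (S.q * S.q) = x := by
    conv_lhs => rw [← Nat.sub_add_cancel (show 1 ≤ S.q * S.q by omega)]
    rw [pow_succ, hx.pow_eq_one, one_mul]
  have ez : (x ^ (S.q + 1))⁻¹ = x ^ (S.q * S.q - 1 - (S.q + 1)) :=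
    inv_eq_of_mul_eq_one_right (by rw [← pow_add, Nat.add_sub_cancel' (by omega), hx.pow_eq_one])
  have hφq : ∀ t, S.φ t = t ^ S.q := S.hφ
  refine occurs_single S (by omega) hx (y := x ^ S.q) (z := (x ^ (S.q + 1))⁻¹) S.q _ rfl ez (by omega) (by omega)
    ?_ ?_ ?_ ?_
  · simp only [List.nodup_cons, List.mem_cons, List.not_mem_nil, List.nodup_nil, not_false_iff, or_false, and_true,
      not_or]
    omega
  · simp only [List.mem_cons, List.not_mem_nil, or_false]
    omega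
  · rw [pow_succ]; field_simp
  · rw [hφq, hφq, hφq, ← pow_mul, hqq, inv_pow, ← pow_mul, add_mul, one_mul, pow_add, hqq,
      show x * x ^ S.q = x ^ (S.q + 1) by rw [pow_succ, mul_comm]]
    exact (chi_perm _ _ _).1.symm

theorem not_dvd_cubic : ¬ S.p ∣ S.q * S.q + S.q + 1 ∧ ¬ S.p ∣ S.q * S.q - S.q + 1 :=
  ⟨not_dvd_of S (Or.inr rfl) (((q_dvd S).mul_right _).add (q_dvd S)),
    not_dvd_of S (Or.inr rfl) (Nat.dvd_sub ((q_dvd S).mul_right _) (q_dvd S))⟩

theorem occurs_cubic_plus : ∃ g : ↥(Cfsg.Lie.chevG2.group F), orderOf g = S.q * S.q + S.q + 1 := by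
  have hq : 5 ≤ S.q := S.hq5
  have h4 : 5 * S.q ≤ S.q * S.q := Nat.mul_le_mul_right _ hq
  obtain ⟨x, hx⟩ := exists_prim S (not_dvd_cubic S).1
  have hx0 : x ≠ 0 := hx.ne_zero (by omega)
  have h1 : x ^ (S.q * S.q) * x ^ S.q * x = 1 := by rw [← pow_add, ← pow_succ, hx.pow_eq_one]
  have hφq : ∀ t, S.φ t = t ^ S.q := S.hφ
  refine occurs_single S (by omega) hx (y := x ^ S.q) (z := x ^ (S.q * S.q)) S.q (S.q * S.q) rfl rfl (by omega)
    (by omega) ?_ ?_ ?_ ?_
  · simp only [List.nodup_cons, List.mem_cons, List.not_mem_nil, List.nodup_nil, not_false_iff, or_false, and_true,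
      not_or]
    omega
  · simp only [List.mem_cons, List.not_mem_nil, or_false]
    omega
  · rw [← h1]; ring
  · have h2 : (x ^ (S.q * S.q)) ^ S.q = x := by
      have h' := congrArg (fun t : K => t ^ S.q) h1
      simp only [mul_pow, one_pow, ← pow_mul] at h'
      rw [← pow_mul]
      refine mul_right_cancel₀ (mul_ne_zero (pow_ne_zero (S.q * S.q) hx0) (pow_ne_zero S.q hx0)) ?_
      linear_combination h' - h1
    rw [hφq, hφq, hφq, ← pow_mul, h2]
    simp only [chi_eq]; ring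

theorem occurs_cubic_minus : ∃ g : ↥(Cfsg.Lie.chevG2.group F), orderOf g = S.q * S.q - S.q + 1 := by
  have hq : 5 ≤ S.q := S.hq5
  have h4 : 5 * S.q ≤ S.q * S.q := Nat.mul_le_mul_right _ hq
  obtain ⟨x, hx⟩ := exists_prim S (not_dvd_cubic S).2
  have hx0 : x ≠ 0 := hx.ne_zero (by omega)
  have h1 : x ^ (S.q * S.q) * x = x ^ S.q := by
    rw [← pow_succ, show S.q * S.q + 1 = (S.q * S.q - S.q + 1) + S.q by omega, pow_add, hx.pow_eq_one, one_mul]
  have ey : (x ^ S.q)⁻¹ = x ^ (S.q * S.q - S.q + 1 - S.q) :=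
    inv_eq_of_mul_eq_one_right (by rw [← pow_add, Nat.add_sub_cancel' (by omega), hx.pow_eq_one])
  have ez : x ^ (S.q * S.q) = x ^ (S.q - 1) := by
    refine mul_right_cancel₀ hx0 ?_
    rw [h1, ← pow_succ, Nat.sub_add_cancel (by omega)]
  have hφq : ∀ t, S.φ t = t ^ S.q := S.hφ
  refine occurs_single S (by omega) hx (y := (x ^ S.q)⁻¹) (z := x ^ (S.q * S.q)) _ _ ey ez (by omega) (by omega)
    ?_ ?_ ?_ ?_
  · simp only [List.nodup_cons, List.mem_cons, List.not_mem_nil, List.nodup_nil, not_false_iff, or_false, and_true,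
      not_or]
    omega
  · simp only [List.mem_cons, List.not_mem_nil, or_false]
    omega
  · field_simp; linear_combination h1
  · have h2 : (x ^ (S.q * S.q)) ^ S.q = x⁻¹ := by
      have h' := congrArg (fun t : K => t ^ S.q) h1
      simp only [mul_pow, ← pow_mul] at h'
      rw [← pow_mul]
      refine mul_right_cancel₀ (pow_ne_zero S.q hx0) ?_
      rw [h', ← h1]
      field_simp
    rw [hφq, hφq, hφq, inv_pow, ← pow_mul, h2]
    simp only [chi_eq, inv_inv]; ring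

omit S in
/-- The members form an antichain. -/
theorem antichain {p q M N : ℕ} (hp : p.Prime) (hpq : p ∣ q) (hq : 5 ≤ q) (hM : Bound q p M) (hN : Bound q p N)
    (h : M ∣ N) : M = N := by
  have hp1 := hp.two_le
  have h5 : 5 * q ≤ q * q := Nat.mul_le_mul_right _ hq
  have cp : ∀ n, (¬ p ∣ n) → Nat.Coprime p n := fun n => hp.coprime_iff_not_dvd.2
  have ndvd : ∀ n m, (n + 1 = m ∨ n = m + 1) → p ∣ m → ¬ p ∣ n := by
    intro n m h hm hn
    refine hp.ne_one (Nat.dvd_one.1 ?_)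
    rcases h with h | h <;> subst h
    · exact (Nat.dvd_add_right hn).1 hm
    · exact (Nat.dvd_add_right hm).1 hn
  have n1 := ndvd (q + 1) q (Or.inr rfl) hpq
  have n2 := ndvd (q - 1) q (Or.inl (by omega)) hpq
  have n3 := ndvd (q * q - 1) (q * q) (Or.inl (by omega)) (hpq.mul_right _)
  have n4 := ndvd (q * q + q + 1) (q * q + q) (Or.inr rfl) ((hpq.mul_right _).add hpq)
  have n5 := ndvd (q * q - q + 1) (q * q - q) (Or.inr rfl) (Nat.dvd_sub (hpq.mul_right _) hpq)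
  have big : ∀ a b c : ℕ, 0 < b → b < a → ¬ p ∣ a → a ∣ p ^ c * b → False := fun a b c hb hba hna hd =>
    absurd (Nat.le_of_dvd hb (((cp a hna).symm.pow_right c).dvd_of_dvd_mul_left hd)) (not_le.2 hba)
  have low : ∀ a b : ℕ, p ∣ a → ¬ p ∣ b → a ∣ b → False := fun a b ha hb hd => hb (ha.trans hd)
  have near : ∀ a b : ℕ, a < b → b < 2 * a → a ∣ b → False := by
    rintro a b h1 h2 ⟨k, rfl⟩
    have h3 : 1 < k := by
      by_contra hk
      have := Nat.mul_le_mul_left a (not_lt.1 hk); omega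
    have := Nat.mul_le_mul_left a h3
    omega
  have gap : ∀ a b : ℕ, b < a → 0 < b → a ∣ b → False := fun a b h1 h2 hd =>
    absurd (Nat.le_of_dvd h2 hd) (not_le.2 h1)
  rcases hM with rfl | rfl | rfl | rfl | rfl | ⟨-, rfl⟩ <;>
    rcases hN with rfl | rfl | rfl | rfl | rfl | ⟨-, rfl⟩
  all_goals first
    | rfl
    | exact (low _ _ (dvd_mul_right p _) n3 h).elim
    | exact (low _ _ (dvd_mul_right p _) n4 h).elim
    | exact (low _ _ (dvd_mul_right p _) n5 h).elim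
    | exact (big _ (q + 1) 1 (by omega) (by omega) n3 (by rwa [pow_one])).elim
    | exact (big _ (q + 1) 1 (by omega) (by omega) n4 (by rwa [pow_one])).elim
    | exact (big _ (q + 1) 1 (by omega) (by omega) n5 (by rwa [pow_one])).elim
    | exact (big _ (q - 1) 1 (by omega) (by omega) n3 (by rwa [pow_one])).elim
    | exact (big _ (q - 1) 1 (by omega) (by omega) n4 (by rwa [pow_one])).elim
    | exact (big _ (q - 1) 1 (by omega) (by omega) n5 (by rwa [pow_one])).elim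
    | exact (big _ 1 2 (by omega) (by omega) n3 (by rwa [mul_one, pow_two])).elim
    | exact (big _ 1 2 (by omega) (by omega) n4 (by rwa [mul_one, pow_two])).elim
    | exact (big _ 1 2 (by omega) (by omega) n5 (by rwa [mul_one, pow_two])).elim
    | exact (gap _ _ (by omega) (by omega) h).elim
    | exact (near _ _ (by omega) (by omega) h).elim
    | exact (near _ _ (by omega) (by omega) (Nat.dvd_of_mul_dvd_mul_left hp.pos h)).elim
    | exact (gap _ _ (by omega) (by omega) (Nat.dvd_of_mul_dvd_mul_left hp.pos h)).elim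
    | exact (n1 (Nat.dvd_of_mul_dvd_mul_left hp.pos h)).elim
    | exact (n2 (Nat.dvd_of_mul_dvd_mul_left hp.pos h)).elim
    | exact absurd ((Nat.dvd_prime hp).1 (Nat.dvd_of_mul_dvd_mul_left hp.pos h)) (by rintro (e | e) <;> first | omega | exact n1 (e ▸ dvd_rfl) | exact n2 (e ▸ dvd_rfl))

end Cfsg.Agent.G2Odd
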